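import Cfsg.Agent.Lib.Perm.SharpTwo
import Mathlib.GroupTheory.SpecificGroups.Cyclic
import Mathlib.GroupTheory.PGroup
import Mathlib.GroupTheory.Perm.Cycle.Type
import Mathlib.GroupTheory.GroupAction.MultipleTransitivity

/-!
Jordan's theorem on sharply multiply transitive groups:
a sharply four-transitive group has degree 4, 5, 6 or 11.
-/

set_option autoImplicit false

namespace CfsgLib.Sharp.Jordan

open MulAction

variable {G α : Type*} [Group G] [MulAction G α]

/-- Sharp transitivity on ordered `k`-tuples of distinct points. -/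
def Sharp (k : ℕ) (G α : Type*) [Group G] [MulAction G α] : Prop :=
  ∀ x y : Fin k ↪ α, ∃! g : G, g • x = y

theorem sharp_of (k : ℕ) [IsMultiplyPretransitive G α k]
    (h : ∀ x : Fin k ↪ α, stabilizer G x = ⊥) : Sharp k G α := by
  intro x y
  obtain ⟨g, hg⟩ := exists_smul_eq G x y
  refine ⟨g, hg, fun g' hg' => ?_⟩
  have : g⁻¹ * g' ∈ stabilizer G x := by
    rw [mem_stabilizer_iff, mul_smul]
    exact inv_smul_eq_iff.2 (hg'.trans hg.symm)
  rw [h, Subgroup.mem_bot] at this
  exact (inv_mul_eq_one.1 this).symm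

/-- Four points as an embedding. -/
def four {a b c d : α} (hab : a ≠ b) (hac : a ≠ c) (had : a ≠ d) (hbc : b ≠ c) (hbd : b ≠ d)
    (hcd : c ≠ d) : Fin 4 ↪ α where
  toFun := ![a, b, c, d]
  inj' := by
    intro i j h
    fin_cases i <;> fin_cases j <;> simp_all [eq_comm]

theorem exists4 (hS : Sharp 4 G α) {a b c d a' b' c' d' : α}
    (hab : a ≠ b) (hac : a ≠ c) (had : a ≠ d) (hbc : b ≠ c) (hbd : b ≠ d) (hcd : c ≠ d)
    (hab' : a' ≠ b') (hac' : a' ≠ c') (had' : a' ≠ d') (hbc' : b' ≠ c') (hbd' : b' ≠ d')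
    (hcd' : c' ≠ d') :
    ∃ g : G, g • a = a' ∧ g • b = b' ∧ g • c = c' ∧ g • d = d' := by
  obtain ⟨g, hg, -⟩ := hS (four hab hac had hbc hbd hcd) (four hab' hac' had' hbc' hbd' hcd')
  have h := fun i : Fin 4 => congrFun (congrArg (fun e : Fin 4 ↪ α => (e : Fin 4 → α)) hg) i
  exact ⟨g, h 0, h 1, h 2, h 3⟩

theorem eq_one4 (hS : Sharp 4 G α) {g : G} {a b c d : α}
    (hab : a ≠ b) (hac : a ≠ c) (had : a ≠ d) (hbc : b ≠ c) (hbd : b ≠ d) (hcd : c ≠ d)
    (ha : g • a = a) (hb : g • b = b) (hc : g • c = c) (hd : g • d = d) : g = 1 := by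
  obtain ⟨g₀, -, hu⟩ := hS (four hab hac had hbc hbd hcd) (four hab hac had hbc hbd hcd)
  have h1 : g • four hab hac had hbc hbd hcd = four hab hac had hbc hbd hcd := by
    ext i
    fin_cases i
    · exact ha
    · exact hb
    · exact hc
    · exact hd
  rw [hu g h1, hu 1 (one_smul _ _)]

/-- Points other than two given ones, acted on by their common stabilizer. -/
def avoid (G : Type*) {α : Type*} [Group G] [MulAction G α] (c d : α) :
    SubMulAction ↥(stabilizer G c ⊓ stabilizer G d) α where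
  carrier := {p | p ≠ c ∧ p ≠ d}
  smul_mem' := by
    rintro ⟨g, hgc, hgd⟩ p ⟨hpc, hpd⟩
    refine ⟨fun h => hpc ?_, fun h => hpd ?_⟩
    · exact (smul_left_cancel_iff g).1 (h.trans (mem_stabilizer_iff.1 hgc).symm)
    · exact (smul_left_cancel_iff g).1 (h.trans (mem_stabilizer_iff.1 hgd).symm)

/-- The kernel of the sharply two-transitive stabilizer of two points, seen in the whole group. -/
theorem exists_kernel [Finite G] [Finite α] (hS : Sharp 4 G α) {c d : α} (hcd : c ≠ d)
    (h4 : 4 ≤ Nat.card α) :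
    ∃ (A : Subgroup G) (p j : ℕ), A ≤ stabilizer G c ⊓ stabilizer G d ∧ p.Prime ∧
      Nat.card α = p ^ j + 2 ∧ Nat.card A = p ^ j ∧ 1 ≤ j ∧
      (∀ u ∈ A, ∀ v ∈ A, u * v = v * u) ∧ (∀ u ∈ A, u ^ p = 1) ∧
      (∀ e f : α, e ≠ c → e ≠ d → f ≠ c → f ≠ d → ∃ u ∈ A, u • e = f) ∧
      (∀ e : α, e ≠ c → e ≠ d → ∀ u ∈ A, u • e = e → u = 1) ∧
      ∀ g : G, g ∈ A ↔ g • c = c ∧ g • d = d ∧ (g = 1 ∨ ∀ e, e ≠ c → e ≠ d → g • e ≠ e) := by
  classical
  letI := Fintype.ofFinite α
  set H : Subgroup G := stabilizer G c ⊓ stabilizer G d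
  have hval : ∀ (g : H) (q : avoid G c d), ((g • q : avoid G c d) : α) = (g : G) • (q : α) :=
    fun g q => rfl
  haveI : Fintype (avoid G c d) := Fintype.ofFinite _
  have hcard : Fintype.card (avoid G c d) + 2 = Nat.card α := by
    have h : Fintype.card (avoid G c d) = (({c, d} : Finset α)ᶜ).card := by
      refine Fintype.card_of_subtype _ fun x => ?_
      simp only [Finset.mem_compl, Finset.mem_insert, Finset.mem_singleton, not_or]
      rfl
    rw [h, Finset.card_compl, Finset.card_pair hcd, Nat.card_eq_fintype_card]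
    rw [Nat.card_eq_fintype_card] at h4
    omega
  haveI : IsMultiplyPretransitive H (avoid G c d) 2 := by
    rw [MulAction.is_two_pretransitive_iff]
    intro e f e' f' hef hef'
    have hne : ∀ {u v : avoid G c d}, u ≠ v → (u : α) ≠ v := fun h h' => h (Subtype.ext h')
    obtain ⟨g, gc, gd, ge, gf⟩ := exists4 hS hcd e.2.1.symm f.2.1.symm e.2.2.symm f.2.2.symm
      (hne hef) hcd e'.2.1.symm f'.2.1.symm e'.2.2.symm f'.2.2.symm (hne hef')
    exact ⟨⟨g, gc, gd⟩, Subtype.ext ge, Subtype.ext gf⟩
  have hsharp : ∀ x : Fin 2 ↪ avoid G c d, stabilizer H x = ⊥ := by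
    intro x
    rw [Subgroup.eq_bot_iff_forall]
    intro g hg
    have h := fun i : Fin 2 => congrArg Subtype.val
      (congrFun (congrArg (fun e : Fin 2 ↪ avoid G c d => (e : Fin 2 → avoid G c d)) hg) i)
    have hne : (x 0 : α) ≠ x 1 := fun h' => absurd (x.injective (Subtype.ext h')) (by decide)
    exact Subtype.ext (eq_one4 hS hcd (x 0).2.1.symm (x 1).2.1.symm (x 0).2.2.symm (x 1).2.2.symm
      hne g.2.1 g.2.2 (h 0) (h 1))
  obtain ⟨K, p, j, -, hp, hj, hn, -, hK, hcomm, hexp, htrans, hreg, hiff⟩ :=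
    CfsgLib.Perm.exists_regular_kernel hsharp (by omega)
  refine ⟨K.map H.subtype, p, j, Subgroup.map_subtype_le K, hp, by omega, ?_, hj, ?_, ?_, ?_, ?_, ?_⟩
  · rw [Subgroup.card_map_of_injective H.subtype_injective, hK]
  · rintro _ ⟨u, hu, rfl⟩ _ ⟨v, hv, rfl⟩
    have h : (⟨u, hu⟩ : K) * ⟨v, hv⟩ = ⟨v, hv⟩ * ⟨u, hu⟩ := hcomm.is_comm.comm _ _
    exact congrArg (fun w : K => ((w : H) : G)) h
  · rintro _ ⟨u, hu, rfl⟩
    rw [← map_pow, hexp u hu, map_one]
  · intro e f hec hed hfc hfd
    obtain ⟨u, hu⟩ := htrans.exists_smul_eq (⟨e, hec, hed⟩ : avoid G c d) ⟨f, hfc, hfd⟩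
    exact ⟨((u : H) : G), ⟨u, u.2, rfl⟩, congrArg Subtype.val hu⟩
  · rintro e hec hed _ ⟨u, hu, rfl⟩ hue
    have h : (⟨u, hu⟩ : K) ∈ stabilizer K (⟨e, hec, hed⟩ : avoid G c d) := Subtype.ext hue
    rw [hreg, Subgroup.mem_bot] at h
    rw [show u = 1 from congrArg Subtype.val h]
    rfl
  · intro g
    constructor
    · rintro ⟨u, hu, rfl⟩
      refine ⟨u.2.1, u.2.2, ((hiff u).1 hu).imp (fun h => by rw [h]; rfl) fun h e hec hed he => ?_⟩
      exact h ⟨e, hec, hed⟩ (Subtype.ext he)
    · rintro ⟨gc, gd, h⟩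
      refine ⟨⟨g, gc, gd⟩, (hiff _).2 (h.imp (fun h => Subtype.ext h) fun h e he => ?_), rfl⟩
      exact h e e.2.1 e.2.2 (congrArg Subtype.val he)

/-- An involution fixing two points fixes a third one exactly when the degree is odd. -/
theorem fixed_parity [Finite α] (hS : Sharp 4 G α) {g : G} (hg : g * g = 1) (hg1 : g ≠ 1)
    {c d : α} (hcd : c ≠ d) (hc : g • c = c) (hd : g • d = d) :
    (∃ e, e ≠ c ∧ e ≠ d ∧ g • e = e) ↔ Odd (Nat.card α) := by
  classical
  letI := Fintype.ofFinite α
  have h := Equiv.Perm.card_fixedPoints_modEq (f := fun x : α => g • x) (p := 2) (n := 1)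
    (funext fun x => show g • g • x = x by rw [← mul_smul, hg, one_smul])
  set F : Finset α := Finset.univ.filter fun x => g • x = x with hF
  have hFc : Fintype.card (Function.fixedPoints (fun x : α => g • x)) = F.card := by
    refine Fintype.card_of_subtype _ fun x => ?_
    simp [F, Function.mem_fixedPoints, Function.IsFixedPt]
  rw [hFc, Nat.ModEq] at h
  rw [Nat.card_eq_fintype_card, Nat.odd_iff, h]
  constructor
  · rintro ⟨e, hec, hed, he⟩
    have hFe : F = {c, d, e} := by
      ext x
      simp only [F, Finset.mem_filter, Finset.mem_univ, true_and, Finset.mem_insert,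
        Finset.mem_singleton]
      constructor
      · intro hx
        by_contra hne
        push Not at hne
        exact hg1 (eq_one4 hS hcd hec.symm hne.1.symm hed.symm hne.2.1.symm hne.2.2.symm
          hc hd he hx)
      · rintro (rfl | rfl | rfl) <;> assumption
    rw [hFe, Finset.card_insert_of_notMem (by simp [hcd, hec.symm]),
      Finset.card_pair hed.symm]
  · intro h1
    by_contra hne
    push Not at hne
    have hFe : F = {c, d} := by
      ext x
      simp only [F, Finset.mem_filter, Finset.mem_univ, true_and, Finset.mem_insert,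
        Finset.mem_singleton]
      constructor
      · intro hx
        by_contra hn
        push Not at hn
        exact hne x hn.1 hn.2 hx
      · rintro (rfl | rfl) <;> assumption
    rw [hFe, Finset.card_pair hcd] at h1
    omega

theorem card_le_of_even [Finite G] [Finite α] (hS : Sharp 4 G α) (h4 : 4 ≤ Nat.card α)
    (heven : ¬ Odd (Nat.card α)) : Nat.card α ≤ 6 := by
  classical
  letI := Fintype.ofFinite α
  obtain ⟨φ⟩ : Nonempty (Fin 4 ↪ α) := Function.Embedding.nonempty_of_card_le (by
    rwa [Fintype.card_fin, ← Nat.card_eq_fintype_card])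
  set a := φ 0
  set b := φ 1
  set c := φ 2
  set d := φ 3
  have ne : ∀ i j : Fin 4, i ≠ j → φ i ≠ φ j := fun i j h h' => h (φ.injective h')
  have hab : a ≠ b := ne 0 1 (by decide)
  have hac : a ≠ c := ne 0 2 (by decide)
  have had : a ≠ d := ne 0 3 (by decide)
  have hbc : b ≠ c := ne 1 2 (by decide)
  have hbd : b ≠ d := ne 1 3 (by decide)
  have hcd : c ≠ d := ne 2 3 (by decide)
  obtain ⟨y, ya, yb, yc, yd⟩ := exists4 hS hab hac had hbc hbd hcd hab had hac hbd hbc hcd.symm
  have hy2 : y * y = 1 := eq_one4 hS hab hac had hbc hbd hcd (by rw [mul_smul, ya, ya])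
    (by rw [mul_smul, yb, yb]) (by rw [mul_smul, yc, yd]) (by rw [mul_smul, yd, yc])
  have hy1 : y ≠ 1 := fun h => hcd (by rw [h, one_smul] at yc; exact yc)
  have hyfix : ∀ e, y • e = e → e = a ∨ e = b := by
    intro e he
    by_contra hne
    push Not at hne
    exact heven ((fixed_parity hS hy2 hy1 hab ya yb).1 ⟨e, hne.1, hne.2, he⟩)
  have hyinv : y⁻¹ = y := inv_eq_of_mul_eq_one_right hy2
  obtain ⟨A, p, j, hAle, hp, hn, hA, hj, hcomm, hexp, -, hreg, hiff⟩ := exists_kernel hS hcd h4
  have hp2 : p = 2 := by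
    rcases hp.eq_two_or_odd' with h | h
    · exact h
    · exfalso
      apply heven
      rw [hn]
      exact (h.pow).add_even (by decide)
  subst hp2
  have hyA : ∀ u ∈ A, y * u * y ∈ A := by
    intro u hu
    obtain ⟨uc, ud, h⟩ := (hiff u).1 hu
    refine (hiff _).2 ⟨by rw [mul_smul, mul_smul, yc, ud, yd], by rw [mul_smul, mul_smul, yd, uc, yc],
      h.imp (fun h => by rw [h, mul_one, hy2]) fun h e hec hed he => ?_⟩
    refine h (y • e) (fun h' => hed ?_) (fun h' => hec ?_) ?_
    · rw [← one_smul G e, ← hy2, mul_smul, h', yc]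
    · rw [← one_smul G e, ← hy2, mul_smul, h', yd]
    · calc u • y • e = y • y • u • y • e := by rw [← mul_smul y y, hy2, one_smul]
        _ = y • e := by
          rw [show y • u • y • e = e by rw [mul_smul, mul_smul] at he; exact he]
  letI := Fintype.ofFinite A
  set f : A → A := fun u => u * ⟨y * u * y, hyA u u.2⟩
  have hfix : ∀ u : A, (y * u * y : G) = u → u = 1 ∨ (u : G) • a = b := by
    intro u hu
    have hcom : y * (u : G) = u * y := by
      calc y * (u : G) = y * u * y * y := by rw [mul_assoc (y * (u : G)), hy2, mul_one]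
        _ = u * y := by rw [hu]
    rcases hyfix ((u : G) • a) (by rw [← mul_smul, hcom, mul_smul, ya]) with h | h
    · exact Or.inl (Subtype.ext (hreg a hac had u u.2 h))
    · exact Or.inr h
  have hle2 : (Finset.univ.filter fun u : A => y * (u : G) * y = u).card ≤ 2 := by
    have hinj : Set.InjOn (fun u : A => (u : G) • a)
        ↑(Finset.univ.filter fun u : A => y * (u : G) * y = u) := by
      intro u _ v _ huv
      have := hreg a hac had _ (A.mul_mem (A.inv_mem v.2) u.2) (by
        rw [mul_smul]; exact inv_smul_eq_iff.2 huv)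
      exact Subtype.ext (inv_mul_eq_one.1 this).symm
    refine (Finset.card_le_card_of_injOn _ ?_ hinj).trans (Finset.card_le_two (a := a) (b := b))
    intro u hu
    simp only [Finset.coe_filter, Finset.mem_univ, true_and, Set.mem_ofPred_eq] at hu
    rcases hfix u hu with h | h
    · simp [h]
    · simp [h]
  have hAc : ∀ u v : A, u * v = v * u := fun u v => Subtype.ext (hcomm u u.2 v v.2)
  letI := Fintype.ofFinite G
  have hmain := Finset.card_le_mul_card_image_of_maps_to (f := f) (s := Finset.univ)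
    (t := Finset.univ.filter fun u : A => y * (u : G) * y = u) (fun u _ => by
      simp only [Finset.mem_filter, Finset.mem_univ, true_and, f, Subgroup.coe_mul]
      calc y * ((u : G) * (y * u * y)) * y = (y * u * y) * u * (y * y) := by group
        _ = u * (y * u * y) := by
          rw [hy2, mul_one]; exact hcomm _ (hyA u u.2) _ u.2) 2 (fun w _ => ?_)
  · rw [Finset.card_univ, ← Nat.card_eq_fintype_card, hA] at hmain
    omega
  · rcases (Finset.univ.filter fun u : A => f u = w).eq_empty_or_nonempty with h | ⟨v, hv⟩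
    · simp [h]
    · refine le_trans (Finset.card_le_card_of_injOn (fun u => v⁻¹ * u) ?_
        (mul_right_injective _).injOn) hle2
      intro u hu
      simp only [Finset.coe_filter, Finset.mem_univ, true_and, Set.mem_ofPred_eq,
        Finset.mem_filter] at hu hv ⊢
      have he := congrArg Subtype.val (hu.trans hv.symm)
      simp only [f, Subgroup.coe_mul] at he
      have h2 : ∀ t ∈ A, t⁻¹ = t := fun t ht =>
        inv_eq_of_mul_eq_one_right (by rw [← pow_two]; exact hexp t ht)
      have hc1 : (v : G)⁻¹ * u = (y * u * y)⁻¹ * (y * v * y) := by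
        calc (v : G)⁻¹ * u = (v : G)⁻¹ * (u * (y * u * y)) * (y * u * y)⁻¹ := by group
          _ = (v : G)⁻¹ * (v * (y * v * y)) * (y * u * y)⁻¹ := by rw [he]
          _ = (y * v * y) * (y * u * y)⁻¹ := by group
          _ = (y * u * y)⁻¹ * (y * v * y) :=
            hcomm _ (hyA v v.2) _ (A.inv_mem (hyA u u.2))
      rw [Subgroup.coe_mul, Subgroup.coe_inv]
      conv_rhs => rw [hc1, h2 _ (hyA u u.2)]
      rw [h2 _ v.2]
      calc y * ((v : G) * u) * y = y * ((u : G) * v) * y := by rw [hcomm _ v.2 _ u.2]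
        _ = y * u * (y * y) * v * y := by rw [hy2]; group
        _ = y * u * y * (y * v * y) := by group

/-- The data attached to an involution with exactly three fixed points. -/
structure Frame (G α : Type*) [Group G] [MulAction G α] where
  /-- the moved reference point -/
  a : α
  /-- its partner -/
  b : α
  /-- first fixed point -/
  c : α
  /-- second fixed point -/
  d : α
  /-- third fixed point -/
  e : α
  /-- the involution -/
  x : G
  /-- transposes two of the fixed points -/
  y : G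
  /-- permutes the fixed points cyclically -/
  z : G
  hab : a ≠ b
  hac : a ≠ c
  had : a ≠ d
  hae : a ≠ e
  hbc : b ≠ c
  hbd : b ≠ d
  hbe : b ≠ e
  hcd : c ≠ d
  hce : c ≠ e
  hde : d ≠ e
  xa : x • a = b
  xb : x • b = a
  xc : x • c = c
  xd : x • d = d
  xe : x • e = e
  ya : y • a = a
  yc : y • c = d
  yd : y • d = c
  ye : y • e = e
  yb : y • b = b
  za : z • a = a
  zb : z • b = b
  zc : z • c = d
  zd : z • d = e
  ze : z • e = c
  central : ∀ g : G, g • c = c → g • d = d → g • e = e → g * x = x * g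
  unique : ∀ g : G, g • c = c → g • d = d → g • e = e → g * g = 1 → g = 1 ∨ g = x

theorem exists_frame [Finite G] [Finite α] (hS : Sharp 4 G α) (h4 : 4 ≤ Nat.card α)
    (hodd : Odd (Nat.card α)) : Nonempty (Frame G α) := by
  classical
  letI := Fintype.ofFinite α
  obtain ⟨φ⟩ : Nonempty (Fin 4 ↪ α) := Function.Embedding.nonempty_of_card_le (by
    rwa [Fintype.card_fin, ← Nat.card_eq_fintype_card])
  set a := φ 0
  set b := φ 1
  set c := φ 2
  set d := φ 3
  have ne : ∀ i j : Fin 4, i ≠ j → φ i ≠ φ j := fun i j h h' => h (φ.injective h')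
  have hab : a ≠ b := ne 0 1 (by decide)
  have hac : a ≠ c := ne 0 2 (by decide)
  have had : a ≠ d := ne 0 3 (by decide)
  have hbc : b ≠ c := ne 1 2 (by decide)
  have hbd : b ≠ d := ne 1 3 (by decide)
  have hcd : c ≠ d := ne 2 3 (by decide)
  obtain ⟨x, xa, xb, xc, xd⟩ := exists4 hS hab hac had hbc hbd hcd hab.symm hbc hbd hac had hcd
  have hx2 : x * x = 1 := eq_one4 hS hab hac had hbc hbd hcd (by rw [mul_smul, xa, xb])
    (by rw [mul_smul, xb, xa]) (by rw [mul_smul, xc, xc]) (by rw [mul_smul, xd, xd])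
  have hx1 : x ≠ 1 := fun h => hab (by rw [h, one_smul] at xa; exact xa)
  obtain ⟨e, hec, hed, xe⟩ := (fixed_parity hS hx2 hx1 hcd xc xd).2 hodd
  have hae : a ≠ e := fun h => hab (by rw [h] at xa ⊢; exact xe.symm.trans xa)
  have hbe : b ≠ e := fun h => hab (by rw [h] at xb ⊢; exact (xe.symm.trans xb).symm)
  obtain ⟨A, p, j, hAle, hp, hn, hA, hj, hcomm, hexp, htrans, hreg, hiff⟩ :=
    exists_kernel hS hcd h4
  have hp2 : p ≠ 2 := by
    rintro rfl
    have h2 : Even (2 ^ j + 2) := (Nat.even_pow.2 ⟨even_two, by omega⟩).add even_two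
    rw [← hn] at h2
    exact Nat.not_even_iff_odd.2 hodd h2
  -- an involution fixing `c d e` inverts the kernel
  have hinv : ∀ t : G, t • c = c → t • d = d → t • e = e → t * t = 1 → t ≠ 1 →
      ∀ u ∈ A, t * u * t = u⁻¹ := by
    intro t tc td te ht2 ht1 u hu
    have hconj : ∀ v ∈ A, t * v * t ∈ A := by
      intro v hv
      obtain ⟨vc, vd, h⟩ := (hiff v).1 hv
      refine (hiff _).2 ⟨by rw [mul_smul, mul_smul, tc, vc, tc], by rw [mul_smul, mul_smul, td, vd, td],
        h.imp (fun h => by rw [h, mul_one, ht2]) fun h f hfc hfd hf => ?_⟩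
      refine h (t • f) (fun h' => hfc ?_) (fun h' => hfd ?_) ?_
      · rw [← one_smul G f, ← ht2, mul_smul, h', tc]
      · rw [← one_smul G f, ← ht2, mul_smul, h', td]
      · calc v • t • f = t • t • v • t • f := by rw [← mul_smul t t, ht2, one_smul]
          _ = t • f := by
            rw [show t • v • t • f = f by rw [mul_smul, mul_smul] at hf; exact hf]
    have hw : u * (t * u * t) ∈ A := A.mul_mem hu (hconj u hu)
    have hwt : t * (u * (t * u * t)) = u * (t * u * t) * t := by
      calc t * (u * (t * u * t)) = (t * u * t) * u * t := by group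
        _ = u * (t * u * t) * t := by rw [hcomm _ (hconj u hu) _ hu]
    set w := u * (t * u * t)
    obtain ⟨wc, wd, -⟩ := (hiff w).1 hw
    have hwe : w • e = e := by
      by_contra hne
      refine ht1 (eq_one4 hS hcd hec.symm (fun h => hec ?_) hed.symm (fun h => hed ?_) (Ne.symm hne)
        tc td te (by rw [← mul_smul, hwt, mul_smul, te]))
      · exact ((smul_left_cancel_iff w).1 (wc.trans h)).symm
      · exact ((smul_left_cancel_iff w).1 (wd.trans h)).symm
    exact (inv_eq_of_mul_eq_one_right (hreg e hec hed w hw hwe)).symm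
  have huniq : ∀ g : G, g • c = c → g • d = d → g • e = e → g * g = 1 → g = 1 ∨ g = x := by
    intro g gc gd ge g2
    by_cases hg1 : g = 1
    · exact Or.inl hg1
    right
    have hall : ∀ f, f ≠ c → f ≠ d → (g * x) • f = f := by
      intro f hfc hfd
      obtain ⟨u, hu, rfl⟩ := htrans e f hec hed hfc hfd
      have hi1 := hinv g gc gd ge g2 hg1
      have hi2 := hinv x xc xd xe hx2 hx1
      have hc : g * x * u = u * (g * x) := by
        calc g * x * u = g * (x * u * x) * x⁻¹ := by group
          _ = g * u⁻¹ * x := by rw [hi2 u hu, inv_eq_of_mul_eq_one_right hx2]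
          _ = g * u⁻¹ * g⁻¹ * (g * x) := by group
          _ = u * (g * x) := by
            rw [inv_eq_of_mul_eq_one_right g2, hi1 _ (A.inv_mem hu), inv_inv]
      rw [← mul_smul, hc, mul_smul, mul_smul g x, xe, ge]
    have h1 := eq_one4 hS hab hac had hbc hbd hcd (hall a hac had) (hall b hbc hbd)
      (by rw [mul_smul, xc, gc]) (by rw [mul_smul, xd, gd])
    calc g = g * (x * x) := by rw [hx2, mul_one]
      _ = g * x * x := by group
      _ = x := by rw [h1, one_mul]
  have hcentral : ∀ g : G, g • c = c → g • d = d → g • e = e → g * x = x * g := by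
    intro g gc gd ge
    have gi : ∀ f : α, g • f = f → g⁻¹ • f = f := fun f h => inv_smul_eq_iff.2 h.symm
    rcases huniq (g * x * g⁻¹) (by rw [mul_smul, mul_smul, gi c gc, xc, gc])
      (by rw [mul_smul, mul_smul, gi d gd, xd, gd]) (by rw [mul_smul, mul_smul, gi e ge, xe, ge])
      (by calc g * x * g⁻¹ * (g * x * g⁻¹) = g * (x * x) * g⁻¹ := by group
            _ = 1 := by rw [hx2]; group) with h | h
    · exact absurd (by simpa using h) hx1
    · calc g * x = g * x * g⁻¹ * g := by group
        _ = x * g := by rw [h]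
  obtain ⟨y, ya, yb, yc, yd⟩ := exists4 hS hab hac had hbc hbd hcd hab had hac hbd hbc hcd.symm
  have hxy : x * y = y * x := by
    refine (inv_mul_eq_one.1 (eq_one4 hS hab hac had hbc hbd hcd ?_ ?_ ?_ ?_)).symm <;>
      rw [mul_smul, inv_smul_eq_iff, mul_smul, mul_smul]
    · rw [ya, xa, yb]
    · rw [yb, xb, ya]
    · rw [yc, xd, xc, yc]
    · rw [yd, xc, xd, yd]
  have hxfix : ∀ f, x • f = f → f = c ∨ f = d ∨ f = e := by
    intro f hf
    by_contra hne
    push Not at hne
    exact hx1 (eq_one4 hS hcd hec.symm hne.1.symm hed.symm hne.2.1.symm hne.2.2.symm xc xd xe hf)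
  have ye : y • e = e := by
    rcases hxfix (y • e) (by rw [← mul_smul, hxy, mul_smul, xe]) with h | h | h
    · exact absurd ((smul_left_cancel_iff y).1 (h.trans yd.symm)) hed
    · exact absurd ((smul_left_cancel_iff y).1 (h.trans yc.symm)) hec
    · exact h
  obtain ⟨z, za, zc, zd, ze⟩ := exists4 hS hac had hae hcd hec.symm hed.symm had hae hac hed.symm
    hcd.symm hec
  have zi : ∀ {f f' : α}, z • f = f' → z⁻¹ • f' = f := fun h => inv_smul_eq_iff.2 h.symm
  have hzx : z * x * z⁻¹ = x := by
    rcases huniq (z * x * z⁻¹) (by rw [mul_smul, mul_smul, zi ze, xe, ze])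
      (by rw [mul_smul, mul_smul, zi zc, xc, zc]) (by rw [mul_smul, mul_smul, zi zd, xd, zd])
      (by calc z * x * z⁻¹ * (z * x * z⁻¹) = z * (x * x) * z⁻¹ := by group
            _ = 1 := by rw [hx2]; group) with h | h
    · exact absurd (by simpa using h) hx1
    · exact h
  have zb : z • b = b := by
    have h : z * x = x * z := by rw [← mul_inv_eq_iff_eq_mul]; exact hzx
    rw [← xa, ← mul_smul, h, mul_smul, za]
  exact ⟨⟨a, b, c, d, e, x, y, z, hab, hac, had, hae, hbc, hbd, hbe, hcd, hec.symm, hed.symm,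
    xa, xb, xc, xd, xe, ya, yc, yd, ye, yb, za, zb, zc, zd, ze, hcentral, huniq⟩⟩

end CfsgLib.Sharp.Jordan
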