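import Cfsg.Agent.Lib.Transfer.PGroup
import Mathlib.GroupTheory.Sylow
import Mathlib.GroupTheory.Perm.Cycle.Type

/-!
The point stabilizer part of Jordan's theorem: a group with an action of the symmetric group of
degree three whose fixed points lie inside `{1, x}`.
-/

set_option autoImplicit false

namespace CfsgLib.Sharp.Jordan

/-- Counting modulo three the fixed points of a map of order three. -/
theorem card_fixed_three {S : Type*} [Finite S] (f : S → S) (hf : ∀ s, f (f (f s)) = s) :
    Nat.card S % 3 = Nat.card {s : S // f s = s} % 3 := by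
  classical
  letI := Fintype.ofFinite S
  haveI : Fact (Nat.Prime 3) := ⟨Nat.prime_three⟩
  have h := Equiv.Perm.card_fixedPoints_modEq (f := f) (p := 3) (n := 1) (funext fun s => hf s)
  rw [Nat.card_eq_fintype_card, Nat.card_eq_fintype_card, h]
  congr 1

open scoped Pointwise in
/-- An `S₃`-action with fixed points inside `{1, x}` kills every odd prime. -/
theorem isPGroup_two {K : Type*} [Group K] [Finite K] (x : K) (hx2 : x * x = 1)
    (hcen : ∀ k, k * x = x * k) (α β : K ≃* K) (hα : ∀ k, α (α k) = k)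
    (hβ : ∀ k, β (β (β k)) = k) (hrel : ∀ k, α (β (α k)) = β (β k))
    (hαfix : ∀ k, α k = k → k = 1 ∨ k = x) (hβfix : ∀ k, β k = k → k = 1 ∨ k = x)
    (h3 : ¬ 3 ∣ Nat.card K) : IsPGroup 2 K := by
  have key : ∀ r, r.Prime → r ∣ Nat.card K → r = 2 := by
    intro r hr hdvd
    rcases hr.eq_two_or_odd' with h | hodd
    · exact h
    exfalso
    haveI : Fact r.Prime := ⟨hr⟩
    have hβP : ∀ P : Sylow r K, (β : MulAut K) • (β : MulAut K) • (β : MulAut K) • P = P := by
      intro P
      rw [← mul_smul, ← mul_smul, show (β : MulAut K) * β * β = 1 from MulEquiv.ext hβ, one_smul]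
    obtain ⟨P, hP⟩ : ∃ P : Sylow r K, (β : MulAut K) • P = P := by
      by_contra hne
      push Not at hne
      haveI : IsEmpty {P : Sylow r K // (β : MulAut K) • P = P} := ⟨fun P => hne P P.2⟩
      have h := card_fixed_three (fun P : Sylow r K => (β : MulAut K) • P) hβP
      rw [Nat.card_of_isEmpty (α := {P : Sylow r K // (β : MulAut K) • P = P})] at h
      have h' : Nat.card (Sylow r K) ∣ Nat.card K :=
        ((default : Sylow r K).card_dvd_index).trans (Subgroup.index_dvd_card _)
      exact h3 ((Nat.dvd_of_mod_eq_zero h).trans h')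
    have hconj : ∀ (φ : MulAut K) (k : K) (R : Sylow r K), φ • (k • R) = φ k • (φ • R) := by
      intro φ k R
      rw [Sylow.smul_def, Sylow.smul_def, ← mul_smul, ← mul_smul]
      congr 1
      ext y
      simp
    have huq : ∀ Q : Sylow r K, (β : MulAut K) • Q = Q → Q = P := by
      intro Q hQ
      obtain ⟨k₀, hk₀⟩ := MulAction.exists_smul_eq K P Q
      have hS : ∀ k : {k : K // k • P = Q}, (β k.1) • P = Q := fun k => by
        have h := hconj β k.1 P
        rw [k.2, hP, hQ] at h
        exact h.symm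
      let e : {k : K // k • P = Q} ≃ MulAction.stabilizer K P :=
        { toFun := fun k => ⟨k₀⁻¹ * k.1, by
            rw [MulAction.mem_stabilizer_iff, mul_smul, k.2, inv_smul_eq_iff, hk₀]⟩
          invFun := fun k => ⟨k₀ * k.1, by rw [mul_smul, k.2, hk₀]⟩
          left_inv := fun k => Subtype.ext (mul_inv_cancel_left _ _)
          right_inv := fun k => Subtype.ext (inv_mul_cancel_left _ _) }
      obtain ⟨k, hk⟩ : ∃ k : {k : K // k • P = Q}, β k.1 = k.1 := by
        by_contra hne
        push Not at hne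
        let f : {k : K // k • P = Q} → {k : K // k • P = Q} := fun k => ⟨β k.1, hS k⟩
        haveI : IsEmpty {k // f k = k} := ⟨fun k => hne k.1 (congrArg Subtype.val k.2)⟩
        have h := card_fixed_three f (fun k => Subtype.ext (hβ k.1))
        rw [Nat.card_of_isEmpty (α := {k // f k = k}), Nat.card_congr e] at h
        exact h3 ((Nat.dvd_of_mod_eq_zero h).trans (Subgroup.card_subgroup_dvd_card _))
      rcases hβfix k.1 hk with h | h
      · exact k.2.symm.trans (by rw [h, one_smul])
      · refine k.2.symm.trans ?_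
        rw [h, Sylow.smul_eq_iff_mem_normalizer]
        refine Subgroup.mem_normalizer_iff.2 fun y => ?_
        rw [← hcen y, mul_inv_cancel_right]
    have hαP : (α : MulAut K) • P = P := by
      refine huq _ ?_
      have hba : (β : MulAut K) * α = α * (β * β) := MulEquiv.ext fun k => by
        simp only [MulAut.mul_apply]
        rw [← hrel k, hα]
      rw [← mul_smul, hba, mul_smul, mul_smul, hP, hP]
    have hmem : ∀ (φ : MulAut K), φ • P = P → ∀ v ∈ (P : Subgroup K), φ v ∈ (P : Subgroup K) := by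
      intro φ hφ v hv
      have h := Subgroup.smul_mem_pointwise_smul v φ (P : Subgroup K) hv
      rwa [← Sylow.pointwise_smul_def, hφ] at h
    have hC : ∀ φ : MulAut K, φ • P = P → ∀ z ∈ (P : Subgroup K),
        (∀ v ∈ (P : Subgroup K), z * v = v * z) →
        φ z ∈ (P : Subgroup K) ∧ ∀ v ∈ (P : Subgroup K), φ z * v = v * φ z := by
      intro φ hφ z hz hz'
      refine ⟨hmem φ hφ z hz, fun v hv => ?_⟩
      have hv' : φ⁻¹ v ∈ (P : Subgroup K) := hmem φ⁻¹ (inv_smul_eq_iff.2 hφ.symm) v hv
      have h := congrArg φ (hz' _ hv')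
      rwa [map_mul, map_mul, MulAut.apply_inv_self] at h
    have hord : ∀ u ∈ (P : Subgroup K), (u = 1 ∨ u = x) → u = 1 := by
      rintro u hu (h | h)
      · exact h
      · obtain ⟨i, hi⟩ := P.isPGroup' ⟨u, hu⟩
        have hi' : u ^ r ^ i = 1 := congrArg Subtype.val hi
        obtain ⟨t, ht⟩ := (hodd.pow : Odd (r ^ i))
        rw [ht, pow_succ, pow_mul, pow_two, h, hx2, one_pow, one_mul] at hi'
        rw [h, hi']
    have hinv : ∀ z ∈ (P : Subgroup K), (∀ v ∈ (P : Subgroup K), z * v = v * z) → α z = z⁻¹ := by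
      intro z hz hz'
      obtain ⟨ha, -⟩ := hC α hαP z hz hz'
      have hu : α (z * α z) = z * α z := by rw [map_mul, hα, hz' _ ha]
      exact (inv_eq_of_mul_eq_one_right (hord _ (P.mul_mem hz ha) (hαfix _ hu))).symm
    have htriv : ∀ z ∈ (P : Subgroup K), (∀ v ∈ (P : Subgroup K), z * v = v * z) → z = 1 := by
      intro z hz hz'
      obtain ⟨hb, hb'⟩ := hC β hP z hz hz'
      have h1 : β (β z) = β z := by
        have h := hrel z
        rw [hinv z hz hz', map_inv, map_inv, hinv _ hb hb', inv_inv] at h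
        exact h.symm
      exact hord z hz (hβfix z (β.injective h1))
    haveI : Nontrivial (P : Subgroup K) :=
      (Subgroup.nontrivial_iff_ne_bot _).2 (P.ne_bot_of_dvd_card hdvd)
    haveI := P.isPGroup'.center_nontrivial
    obtain ⟨⟨z, hz⟩, hz1⟩ := exists_ne (1 : Subgroup.center (P : Subgroup K))
    refine hz1 (Subtype.ext (Subtype.ext (htriv z.1 z.2 fun v hv => ?_)))
    exact congrArg Subtype.val (Subgroup.mem_center_iff.1 hz ⟨v, hv⟩).symm
  have h0 : Nat.card K ≠ 0 := Nat.card_pos.ne'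
  exact IsPGroup.of_card (n := (Nat.card K).primeFactorsList.length)
    (Nat.eq_prime_pow_of_unique_prime_dvd h0 fun {d} hd hdvd => key d hd hdvd)

/-- A 2-group with one involution and an automorphism of order three moving everything else. -/
theorem card_le_eight {K : Type*} [Group K] [Finite K] (hK : IsPGroup 2 K) (x : K) (hx1 : x ≠ 1)
    (hx2 : x * x = 1) (huniq : ∀ k, k * k = 1 → k = 1 ∨ k = x) (β : K ≃* K)
    (hβ : ∀ k, β (β (β k)) = k) (hfix : ∀ k, β k = k → k = 1 ∨ k = x) : Nat.card K ≤ 8 := by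
  classical
  haveI : Fact (Nat.Prime 2) := ⟨Nat.prime_two⟩
  have hcen : ∀ k, k * x = x * k := by
    intro k
    rcases huniq (k * x * k⁻¹) (by
      calc k * x * k⁻¹ * (k * x * k⁻¹) = k * (x * x) * k⁻¹ := by group
        _ = 1 := by rw [hx2]; group) with h | h
    · exact absurd (by simpa using h) hx1
    · calc k * x = k * x * k⁻¹ * k := by group
        _ = x * k := by rw [h]
  let Z : Subgroup K :=
    { carrier := {k | k = 1 ∨ k = x}
      one_mem' := Or.inl rfl
      mul_mem' := by
        rintro u v (rfl | rfl) (rfl | rfl)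
        · exact Or.inl (one_mul 1)
        · exact Or.inr (one_mul _)
        · exact Or.inr (mul_one _)
        · exact Or.inl hx2
      inv_mem' := by
        rintro u (rfl | rfl)
        · exact Or.inl inv_one
        · exact Or.inr (inv_eq_of_mul_eq_one_right hx2) }
  have hZc : ∀ u ∈ Z, ∀ k, k * u = u * k := by
    rintro u (rfl | rfl) k
    · simp
    · exact hcen k
  haveI hZn : Z.Normal := ⟨fun u hu g => by rw [hZc u hu g, mul_inv_cancel_right]; exact hu⟩
  let W : Subgroup K :=
    { carrier := {k | k * k ∈ Z ∧ ∀ h, k * h * k⁻¹ * h⁻¹ ∈ Z}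
      one_mem' := ⟨by simp [Z.one_mem], fun h => by simp [Z.one_mem]⟩
      mul_mem' := by
        rintro k l ⟨hk, hk'⟩ ⟨hl, hl'⟩
        refine ⟨?_, fun h => ?_⟩
        · have : k * l * (k * l) = k * k * (k⁻¹ * (l * k * l⁻¹ * k⁻¹) * k⁻¹⁻¹) * (l * l) := by group
          rw [this]
          exact Z.mul_mem (Z.mul_mem hk (hZn.conj_mem _ (hl' k) k⁻¹)) hl
        · have : k * l * h * (k * l)⁻¹ * h⁻¹ =
              k * (l * h * l⁻¹ * h⁻¹) * k⁻¹ * (k * h * k⁻¹ * h⁻¹) := by group
          rw [this]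
          exact Z.mul_mem (hZn.conj_mem _ (hl' h) k) (hk' h)
      inv_mem' := by
        rintro k ⟨hk, hk'⟩
        refine ⟨by simpa using Z.inv_mem hk, fun h => ?_⟩
        have : k⁻¹ * h * k⁻¹⁻¹ * h⁻¹ = k⁻¹ * (k * h * k⁻¹ * h⁻¹)⁻¹ * k⁻¹⁻¹ := by group
        rw [this]
        exact hZn.conj_mem _ (Z.inv_mem (hk' h)) k⁻¹ }
  have hxW : x ∈ W := ⟨Or.inl hx2, fun h => Or.inl (by
    rw [← hcen h, mul_assoc h, mul_inv_cancel, mul_one, mul_inv_cancel])⟩
  -- a normal subgroup outside `Z` meets `W` outside `Z`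
  have hmeet : ∀ C : Subgroup K, C.Normal → ¬ C ≤ Z → ∃ c ∈ C, c ∈ W ∧ c ∉ Z := by
    intro C hC hCZ
    haveI : (C.map (QuotientGroup.mk' Z)).Normal := hC.map _ (QuotientGroup.mk'_surjective Z)
    have hne : C.map (QuotientGroup.mk' Z) ≠ ⊥ := fun h => hCZ (by
      rw [Subgroup.map_eq_bot_iff, QuotientGroup.ker_mk'] at h; exact h)
    haveI : Group.IsNilpotent (K ⧸ Z) := (hK.to_quotient Z).isNilpotent
    set D := C.map (QuotientGroup.mk' Z) ⊓ Subgroup.center (K ⧸ Z)
    haveI : Nontrivial D := (Subgroup.nontrivial_iff_ne_bot _).2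
      (CfsgLib.Transfer.inf_center_ne_bot hne)
    obtain ⟨n, hn0, hn⟩ := ((hK.to_quotient Z).to_subgroup D).nontrivial_iff_card.1 inferInstance
    obtain ⟨u, hu⟩ := exists_prime_orderOf_dvd_card' (G := D) 2 (hn ▸ dvd_pow_self 2 (by omega))
    obtain ⟨c, hc, hcu⟩ := u.2.1
    have hu2 : ((u : K ⧸ Z)) ^ 2 = 1 := by
      rw [← Subgroup.coe_pow, ← hu, pow_orderOf_eq_one]; rfl
    have hu1 : (u : K ⧸ Z) ≠ 1 := fun h1 => by
      rw [show u = 1 from Subtype.ext h1, orderOf_one] at hu
      omega
    refine ⟨c, hc, ⟨?_, fun k => ?_⟩, fun hcZ => hu1 ?_⟩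
    · rw [← QuotientGroup.eq_one_iff, QuotientGroup.mk_mul, ← pow_two]
      rw [← hcu] at hu2
      exact hu2
    · rw [← QuotientGroup.eq_one_iff]
      have hcom := Subgroup.mem_center_iff.1 u.2.2 (QuotientGroup.mk' Z k)
      rw [← hcu] at hcom
      simp only [QuotientGroup.mk'_apply] at hcom
      rw [QuotientGroup.mk_mul, QuotientGroup.mk_mul, QuotientGroup.mk_mul, QuotientGroup.mk_inv,
        QuotientGroup.mk_inv, ← hcom]
      group
    · rw [← hcu]
      exact (QuotientGroup.eq_one_iff c).2 hcZ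
  by_contra hlarge
  have hcardZ : Nat.card Z = 2 := by
    rw [Nat.card_congr (Equiv.subtypeEquivRight (q := fun k : K => k ∈ ({1, x} : Finset K))
      fun k => by simp [Z]), Nat.card_eq_fintype_card, Fintype.card_coe, Finset.card_pair hx1.symm]
  obtain ⟨w, -, hw, hwZ⟩ := hmeet ⊤ inferInstance (fun h => by
    have := Subgroup.card_le_of_le h
    rw [Subgroup.card_top, hcardZ] at this
    omega)
  have hβx : β x = x := by
    rcases huniq (β x) (by rw [← map_mul, hx2, map_one]) with h | h
    · exact absurd ((MulEquiv.map_eq_one_iff β).1 h) hx1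
    · exact h
  have hβZ : ∀ u ∈ Z, β u ∈ Z := by
    rintro u (rfl | rfl)
    · exact Or.inl (map_one β)
    · exact Or.inr hβx
  have hβW : ∀ k ∈ W, β k ∈ W := by
    intro k hk
    refine ⟨by rw [← map_mul]; exact hβZ _ hk.1, fun h => ?_⟩
    simpa using hβZ _ (hk.2 (β.symm h))
  have hmod : Nat.card W % 3 = 2 := by
    rw [card_fixed_three (fun k : W => (⟨β k, hβW k k.2⟩ : W)) (fun k => Subtype.ext (hβ k))]
    rw [Nat.card_congr (Equiv.subtypeEquivRight
      (q := fun k : W => k ∈ ({1, ⟨x, hxW⟩} : Finset W)) fun k => ?_),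
      Nat.card_eq_fintype_card, Fintype.card_coe,
      Finset.card_pair (fun h => hx1 (congrArg Subtype.val h).symm)]
    simp only [Finset.mem_insert, Finset.mem_singleton]
    constructor
    · intro h
      exact (hfix k.1 (congrArg Subtype.val h)).imp (fun h => Subtype.ext h) fun h => Subtype.ext h
    · rintro (rfl | rfl)
      · exact Subtype.ext (map_one β)
      · exact Subtype.ext hβx
  obtain ⟨v, hv, hvZ, hvw⟩ : ∃ v ∈ W, v ∉ Z ∧ w⁻¹ * v ∉ Z := by
    by_contra hne
    push Not at hne
    letI := Fintype.ofFinite W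
    have hsub : (Finset.univ : Finset W).image Subtype.val ⊆ {1, x, w, w * x} := by
      intro k hk
      simp only [Finset.mem_image, Finset.mem_univ, true_and] at hk
      obtain ⟨k, rfl⟩ := hk
      by_cases hkZ : (k : K) ∈ Z
      · rcases hkZ with h | h <;> simp [h]
      · rcases hne k k.2 hkZ with h | h
        · simp [← inv_mul_eq_one.1 h]
        · simp [inv_mul_eq_iff_eq_mul.1 h]
    have h4 := (Finset.card_le_card hsub).trans Finset.card_le_four
    have h3 : ({1, x, w} : Finset K) ⊆ (Finset.univ : Finset W).image Subtype.val := by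
      intro k hk
      simp only [Finset.mem_insert, Finset.mem_singleton] at hk
      simp only [Finset.mem_image, Finset.mem_univ, true_and]
      rcases hk with rfl | rfl | rfl
      · exact ⟨1, rfl⟩
      · exact ⟨⟨k, hxW⟩, rfl⟩
      · exact ⟨⟨k, hw⟩, rfl⟩
    have h3' := Finset.card_le_card h3
    rw [Finset.card_insert_of_notMem (by
        simp only [Finset.mem_insert, Finset.mem_singleton, not_or]
        exact ⟨hx1.symm, fun h => hwZ (Or.inl h.symm)⟩),
      Finset.card_pair (fun h => hwZ (Or.inr h.symm))] at h3'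
    rw [Finset.card_image_of_injective _ Subtype.val_injective, Finset.card_univ,
      ← Nat.card_eq_fintype_card] at h4 h3'
    obtain ⟨i, hi⟩ := IsPGroup.iff_card.1 (hK.to_subgroup W)
    rcases i with _ | _ | _ | i
    · omega
    · omega
    · omega
    · rw [hi, pow_succ, pow_succ, pow_succ] at h4
      have : 0 < 2 ^ i := by positivity
      omega
  -- commuting elements of `W` outside `Z` agree modulo `Z`
  have hsq : ∀ u ∈ W, u ∉ Z → u * u = x := by
    intro u hu huZ
    rcases hu.1 with h | h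
    · exact absurd (huniq u h) huZ
    · exact h
  have hpair : ∀ u ∈ W, ∀ t ∈ W, u ∉ Z → t ∉ Z → u * t = t * u → u⁻¹ * t ∈ Z := by
    intro u hu t ht huZ htZ hcom
    have h : u * t * (u * t) = 1 := by
      calc u * t * (u * t) = u * (t * u) * t := by group
        _ = u * u * (t * t) := by rw [← hcom]; group
        _ = 1 := by rw [hsq u hu huZ, hsq t ht htZ, hx2]
    have hmem : u * t ∈ Z := huniq _ h
    have : u⁻¹ * t = (u * u)⁻¹ * (u * t) := by group
    rw [this]
    exact Z.mul_mem (Z.inv_mem hu.1) hmem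
  set C : Subgroup K := Subgroup.centralizer {w, v} with hCdef
  have hCmem : ∀ k, k ∈ C ↔ k * w = w * k ∧ k * v = v * k := fun k => by
    rw [Subgroup.mem_centralizer_iff]
    refine ⟨fun h => ⟨(h w (Or.inl rfl)).symm, (h v (Or.inr rfl)).symm⟩, ?_⟩
    rintro ⟨h1, h2⟩ g (rfl | rfl)
    · exact h1.symm
    · exact h2.symm
  have hCn : C.Normal := by
    refine ⟨fun k hk g => ?_⟩
    rw [hCmem] at hk ⊢
    have h : ∀ t ∈ W, k * t = t * k → g * k * g⁻¹ * t = t * (g * k * g⁻¹) := by
      intro t ht hkt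
      have hu := ht.2 g
      have hgt : g⁻¹ * t * g = t * g * t⁻¹ * g⁻¹ * t := by
        calc g⁻¹ * t * g = g⁻¹ * ((t * g * t⁻¹ * g⁻¹) * g) * t := by group
          _ = g⁻¹ * (g * (t * g * t⁻¹ * g⁻¹)) * t := by rw [hZc _ hu g]
          _ = t * g * t⁻¹ * g⁻¹ * t := by rw [inv_mul_cancel_left]
      have hc : k * (g⁻¹ * t * g) = g⁻¹ * t * g * k := by
        rw [hgt, ← mul_assoc k, hZc _ hu k, mul_assoc _ k, hkt, ← mul_assoc]
      calc g * k * g⁻¹ * t = g * (k * (g⁻¹ * t * g)) * g⁻¹ := by group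
        _ = g * (g⁻¹ * t * g * k) * g⁻¹ := by rw [hc]
        _ = t * (g * k * g⁻¹) := by group
    exact ⟨h w hw hk.1, h v hv hk.2⟩
  have hCZ : C ≤ Z := by
    by_contra hne
    obtain ⟨u, huC, huW, huZ⟩ := hmeet C hCn hne
    rw [hCmem] at huC
    have h1 := hpair u huW w hw huZ hwZ huC.1
    have h2 := hpair u huW v hv huZ hvZ huC.2
    apply hvw
    have : w⁻¹ * v = (u⁻¹ * w)⁻¹ * (u⁻¹ * v) := by group
    rw [this]
    exact Z.mul_mem (Z.inv_mem h1) h2
  have hC2 : Nat.card C ≤ 2 := hcardZ ▸ Subgroup.card_le_of_le hCZ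
  have hindex : C.index ≤ 4 := by
    let f : K ⧸ C → Z × Z := fun q => Quotient.liftOn' q
      (fun k => (⟨(w * k * w⁻¹ * k⁻¹), hw.2 k⟩, ⟨(v * k * v⁻¹ * k⁻¹), hv.2 k⟩))
      (fun k l hkl => by
        rw [QuotientGroup.leftRel_apply, hCmem] at hkl
        have e : ∀ t : K, k⁻¹ * l * t = t * (k⁻¹ * l) →
            t * k * t⁻¹ * k⁻¹ = t * l * t⁻¹ * l⁻¹ := by
          intro t ht
          have h : k * t * k⁻¹ = l * t * l⁻¹ := by
            calc k * t * k⁻¹ = k * (t * (k⁻¹ * l)) * l⁻¹ := by group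
              _ = k * (k⁻¹ * l * t) * l⁻¹ := by rw [ht]
              _ = l * t * l⁻¹ := by group
          calc t * k * t⁻¹ * k⁻¹ = t * (k * t * k⁻¹)⁻¹ := by group
            _ = t * l * t⁻¹ * l⁻¹ := by rw [h]; group
        exact Prod.ext (Subtype.ext (e w hkl.1)) (Subtype.ext (e v hkl.2)))
    have hf : Function.Injective f := by
      intro q q'
      induction q using QuotientGroup.induction_on with
      | _ k =>
      induction q' using QuotientGroup.induction_on with
      | _ l =>
      intro h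
      rw [QuotientGroup.eq, hCmem]
      have e : ∀ t : K, t * k * t⁻¹ * k⁻¹ = t * l * t⁻¹ * l⁻¹ →
          k⁻¹ * l * t = t * (k⁻¹ * l) := by
        intro t ht
        have h : k * t * k⁻¹ = l * t * l⁻¹ := by
          calc k * t * k⁻¹ = (t⁻¹ * (t * k * t⁻¹ * k⁻¹))⁻¹ := by group
            _ = l * t * l⁻¹ := by rw [ht]; group
        calc k⁻¹ * l * t = k⁻¹ * (l * t * l⁻¹) * l := by group
          _ = t * (k⁻¹ * l) := by rw [← h]; group
      exact ⟨e w (congrArg (fun p : Z × Z => (p.1 : K)) h),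
        e v (congrArg (fun p : Z × Z => (p.2 : K)) h)⟩
    calc C.index = Nat.card (K ⧸ C) := rfl
      _ ≤ Nat.card (Z × Z) := Nat.card_le_card_of_injective f hf
      _ = 4 := by rw [Nat.card_prod, hcardZ]
  have := C.card_mul_index
  have : Nat.card C * C.index ≤ 2 * 4 := Nat.mul_le_mul hC2 hindex
  omega

end CfsgLib.Sharp.Jordan
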