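import Cfsg.Agent.Lib.Sharp.Jordan
import Cfsg.Agent.Lib.Sharp.JordanSmall

/-!
Jordan's theorem: the degree of a sharply four-transitive group is 4, 5, 6 or 11.
-/

set_option autoImplicit false

namespace CfsgLib.Sharp.Jordan

open MulAction

variable {G α : Type*} [Group G] [MulAction G α]

/-- Conjugation by an element normalizing a subgroup. -/
def conjRestrict (K : Subgroup G) (t : G) (h : ∀ k ∈ K, t * k * t⁻¹ ∈ K)
    (h' : ∀ k ∈ K, t⁻¹ * k * t⁻¹⁻¹ ∈ K) : K ≃* K where
  toFun k := ⟨t * k * t⁻¹, h k k.2⟩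
  invFun k := ⟨t⁻¹ * k * t⁻¹⁻¹, h' k k.2⟩
  left_inv k := Subtype.ext (by simp only; group)
  right_inv k := Subtype.ext (by simp only; group)
  map_mul' k l := Subtype.ext (by simp only [Subgroup.coe_mul]; group)

theorem coe_conjRestrict (K : Subgroup G) (t : G) (h : ∀ k ∈ K, t * k * t⁻¹ ∈ K)
    (h' : ∀ k ∈ K, t⁻¹ * k * t⁻¹⁻¹ ∈ K) (k : K) :
    ((conjRestrict K t h h' k : K) : G) = t * k * t⁻¹ := rfl

/-- Jordan: the degree of a sharply four-transitive group is 4, 5, 6 or 11. -/
theorem degree_four [Finite G] [Finite α] (hS : Sharp 4 G α) (h4 : 4 ≤ Nat.card α) :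
    Nat.card α = 4 ∨ Nat.card α = 5 ∨ Nat.card α = 6 ∨ Nat.card α = 11 := by
  classical
  by_cases hodd : Odd (Nat.card α)
  swap
  · have := card_le_of_even hS h4 hodd
    omega
  obtain ⟨⟨a, b, c, d, e, x, y, z, hab, hac, had, hae, hbc, hbd, hbe, hcd, hce, hde,
    xa, xb, xc, xd, xe, ya, yc, yd, ye, yb, za, zb, zc, zd, ze, hcentral, huniq⟩⟩ :=
    exists_frame hS h4 hodd
  letI := Fintype.ofFinite α
  set K : Subgroup G := stabilizer G c ⊓ stabilizer G d ⊓ stabilizer G e with hKdef
  have hK : ∀ g, g ∈ K ↔ g • c = c ∧ g • d = d ∧ g • e = e := fun g => and_assoc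
  have hy2 : y * y = 1 := eq_one4 hS hab hac had hbc hbd hcd (by rw [mul_smul, ya, ya])
    (by rw [mul_smul, yb, yb]) (by rw [mul_smul, yc, yd]) (by rw [mul_smul, yd, yc])
  have hy1 : y ≠ 1 := fun h => hcd (by rw [h, one_smul] at yc; exact yc)
  have hz3 : z * z * z = 1 := eq_one4 hS hac had hae hcd hce hde
    (by rw [mul_smul, mul_smul, za, za, za]) (by rw [mul_smul, mul_smul, zc, zd, ze])
    (by rw [mul_smul, mul_smul, zd, ze, zc]) (by rw [mul_smul, mul_smul, ze, zc, zd])
  have hzi : z⁻¹ = z * z := inv_eq_of_mul_eq_one_left hz3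
  have hyi : y⁻¹ = y := inv_eq_of_mul_eq_one_right hy2
  have hyzy : y * z * y = z * z := by
    rw [← hzi]
    refine mul_right_cancel (b := z) ?_
    rw [inv_mul_cancel]
    exact eq_one4 hS hac had hae hcd hce hde
      (by rw [mul_smul, mul_smul, mul_smul, za, ya, za, ya])
      (by rw [mul_smul, mul_smul, mul_smul, zc, yd, zc, yd])
      (by rw [mul_smul, mul_smul, mul_smul, zd, ye, ze, yc])
      (by rw [mul_smul, mul_smul, mul_smul, ze, yc, zd, ye])
  have hyK : ∀ k ∈ K, y * k * y⁻¹ ∈ K := by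
    intro k hk
    rw [hK] at hk ⊢
    rw [hyi]
    refine ⟨?_, ?_, ?_⟩
    · rw [mul_smul, mul_smul, yc, hk.2.1, yd]
    · rw [mul_smul, mul_smul, yd, hk.1, yc]
    · rw [mul_smul, mul_smul, ye, hk.2.2, ye]
  have hzK : ∀ k ∈ K, z * k * z⁻¹ ∈ K := by
    intro k hk
    rw [hK] at hk ⊢
    refine ⟨?_, ?_, ?_⟩
    · rw [mul_smul, mul_smul, inv_smul_eq_iff.2 ze.symm, hk.2.2, ze]
    · rw [mul_smul, mul_smul, inv_smul_eq_iff.2 zc.symm, hk.1, zc]
    · rw [mul_smul, mul_smul, inv_smul_eq_iff.2 zd.symm, hk.2.1, zd]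
  set αy : K ≃* K := conjRestrict K y hyK (by rw [hyi]; exact hyK) with hαy
  set βz : K ≃* K := conjRestrict K z hzK (by
    intro k hk
    have h := hzK _ (hzK k hk)
    rw [inv_inv, hzi]
    have : z * (z * k * z⁻¹) * z⁻¹ = z * z * k * (z * z * z)⁻¹ * z := by group
    rwa [this, hz3, inv_one, mul_one] at h) with hβz
  have hxK : x ∈ K := (hK x).2 ⟨xc, xd, xe⟩
  have hx1 : x ≠ 1 := fun h => hab (by rw [h, one_smul] at xa; exact xa)
  have hx2 : x * x = 1 := eq_one4 hS hab hac had hbc hbd hcd (by rw [mul_smul, xa, xb])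
    (by rw [mul_smul, xb, xa]) (by rw [mul_smul, xc, xc]) (by rw [mul_smul, xd, xd])
  have hrega : ∀ k ∈ K, k • a = a → k = 1 := fun k hk ha => by
    rw [hK] at hk
    exact eq_one4 hS hac had hae hcd hce hde ha hk.1 hk.2.1 hk.2.2
  have hkb : ∀ k ∈ K, k • a = b → k = x := by
    intro k hk hkb
    have : x * k = 1 := hrega _ (K.mul_mem hxK hk) (by rw [mul_smul, hkb, xb])
    calc k = x * x * k := by rw [hx2, one_mul]
      _ = x := by rw [mul_assoc, this, mul_one]
  have hxz : z * x = x * z := by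
    have h := (hK _).1 (hzK x hxK)
    rcases huniq _ h.1 h.2.1 h.2.2 (by
      calc z * x * z⁻¹ * (z * x * z⁻¹) = z * (x * x) * z⁻¹ := by group
        _ = 1 := by rw [hx2]; group) with h | h
    · exact absurd (by simpa using h) hx1
    · calc z * x = z * x * z⁻¹ * z := by group
        _ = x * z := by rw [h]
  have hzfix : ∀ f, z • f = f → f = a ∨ f = b := by
    intro f hf
    by_contra hne
    push Not at hne
    have hxf : z • x • f = x • f := by rw [← mul_smul, hxz, mul_smul, hf]
    have h1 : x • f ≠ a := fun h => hne.2 (by rw [← one_smul G f, ← hx2, mul_smul, h, xa])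
    have h2 : x • f ≠ b := fun h => hne.1 (by rw [← one_smul G f, ← hx2, mul_smul, h, xb])
    have h3 : f ≠ x • f := by
      intro h
      apply hx1
      have hfc : f ≠ c := fun hh => hcd (by rw [hh, zc] at hf; exact hf.symm)
      have hfd : f ≠ d := fun hh => hde (by rw [hh, zd] at hf; exact hf.symm)
      have hfe : f ≠ e := fun hh => hce (by rw [hh, ze] at hf; exact hf)
      exact eq_one4 hS hcd hce hfc.symm hde hfd.symm hfe.symm xc xd xe h.symm
    have := eq_one4 hS hab hne.1.symm h1.symm hne.2.symm h2.symm h3 za zb hf hxf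
    rw [this, one_smul] at zc
    exact hcd zc
  have hyfix : ∀ f, y • f = f → f = a ∨ f = b ∨ f = e := by
    intro f hf
    by_contra hne
    push Not at hne
    exact hy1 (eq_one4 hS hab hae hne.1.symm hbe hne.2.1.symm hne.2.2.symm ya yb ye hf)
  set xK : K := ⟨x, hxK⟩ with hxKdef
  have hαfix : ∀ k : K, αy k = k → k = 1 ∨ k = xK := by
    intro k hk
    have h : y * (k : G) * y⁻¹ = k := congrArg Subtype.val hk
    have h' : y * (k : G) = k * y := mul_inv_eq_iff_eq_mul.1 h
    rcases hyfix ((k : G) • a) (by rw [← mul_smul, h', mul_smul, ya]) with h | h | h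
    · exact Or.inl (Subtype.ext (hrega _ k.2 h))
    · exact Or.inr (Subtype.ext (hkb _ k.2 h))
    · exact absurd ((smul_left_cancel_iff (k : G)).1 (h.trans ((hK k).1 k.2).2.2.symm)) hae
  have hβfix : ∀ k : K, βz k = k → k = 1 ∨ k = xK := by
    intro k hk
    have h : z * (k : G) * z⁻¹ = k := congrArg Subtype.val hk
    have h' : z * (k : G) = k * z := mul_inv_eq_iff_eq_mul.1 h
    rcases hzfix ((k : G) • a) (by rw [← mul_smul, h', mul_smul, za]) with h | h
    · exact Or.inl (Subtype.ext (hrega _ k.2 h))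
    · exact Or.inr (Subtype.ext (hkb _ k.2 h))
  have hβ3 : ∀ k : K, βz (βz (βz k)) = k := fun k => Subtype.ext <| by
    simp only [hβz, coe_conjRestrict]
    calc z * (z * (z * (k : G) * z⁻¹) * z⁻¹) * z⁻¹ = z * z * z * k * (z * z * z)⁻¹ := by group
      _ = k := by rw [hz3]; group
  have hcardK : Nat.card K + 3 = Nat.card α := by
    have hb : Function.Bijective (fun k : K => (⟨(k : G) • a, by
        have h := (hK k).1 k.2
        simp only [Finset.mem_compl, Finset.mem_insert, Finset.mem_singleton, not_or]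
        exact ⟨fun hh => hac ((smul_left_cancel_iff (k : G)).1 (hh.trans h.1.symm)),
          fun hh => had ((smul_left_cancel_iff (k : G)).1 (hh.trans h.2.1.symm)),
          fun hh => hae ((smul_left_cancel_iff (k : G)).1 (hh.trans h.2.2.symm))⟩⟩ :
        ↥(({c, d, e} : Finset α)ᶜ))) := by
      refine ⟨fun k l hkl => ?_, fun f => ?_⟩
      · have h : (k : G) • a = (l : G) • a := congrArg Subtype.val hkl
        have := hrega _ (K.mul_mem (K.inv_mem l.2) k.2) (by
          rw [mul_smul]; exact inv_smul_eq_iff.2 h)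
        exact Subtype.ext (inv_mul_eq_one.1 this).symm
      · have hf := f.2
        simp only [Finset.mem_compl, Finset.mem_insert, Finset.mem_singleton, not_or] at hf
        obtain ⟨g, ga, gc, gd, ge⟩ := exists4 hS hac had hae hcd hce hde hf.1 hf.2.1 hf.2.2
          hcd hce hde
        exact ⟨⟨g, (hK g).2 ⟨gc, gd, ge⟩⟩, Subtype.ext ga⟩
    rw [Nat.card_congr (Equiv.ofBijective _ hb), Nat.card_eq_fintype_card, Fintype.card_coe,
      Finset.card_compl, Finset.card_insert_of_notMem (by simp [hcd, hce]),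
      Finset.card_pair hde, Nat.card_eq_fintype_card]
    rw [Nat.card_eq_fintype_card] at h4
    omega
  have hx2' : xK * xK = 1 := Subtype.ext hx2
  have huniqK : ∀ k : K, k * k = 1 → k = 1 ∨ k = xK := fun k hk => by
    rcases huniq (k : G) ((hK k).1 k.2).1 ((hK k).1 k.2).2.1 ((hK k).1 k.2).2.2
      (congrArg Subtype.val hk) with h | h
    · exact Or.inl (Subtype.ext h)
    · exact Or.inr (Subtype.ext h)
  have hmod : Nat.card K % 3 = 2 := by
    rw [card_fixed_three βz hβ3]
    have hβx : βz xK = xK := Subtype.ext (by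
      rw [hβz, coe_conjRestrict, hxz, mul_inv_cancel_right])
    rw [Nat.card_congr (Equiv.subtypeEquivRight
      (q := fun k : K => k ∈ ({1, xK} : Finset K)) fun k => ?_), Nat.card_eq_fintype_card,
      Fintype.card_coe, Finset.card_pair (fun h => hx1 (congrArg Subtype.val h).symm)]
    simp only [Finset.mem_insert, Finset.mem_singleton]
    refine ⟨hβfix k, ?_⟩
    rintro (rfl | rfl)
    · exact map_one βz
    · exact hβx
  have hcen : ∀ k : K, k * xK = xK * k := fun k => Subtype.ext
    (hcentral k ((hK k).1 k.2).1 ((hK k).1 k.2).2.1 ((hK k).1 k.2).2.2)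
  have hP : IsPGroup 2 K := by
    refine isPGroup_two xK hx2' hcen αy βz (fun k => Subtype.ext ?_) hβ3 (fun k => Subtype.ext ?_)
      hαfix hβfix (fun h => by omega)
    · simp only [hαy, coe_conjRestrict]
      calc y * (y * (k : G) * y⁻¹) * y⁻¹ = y * y * k * (y * y)⁻¹ := by group
        _ = k := by rw [hy2]; group
    · simp only [hαy, hβz, coe_conjRestrict]
      calc y * (z * (y * (k : G) * y⁻¹) * z⁻¹) * y⁻¹ = (y * z * y) * k * (y * z * y)⁻¹ := by group
        _ = z * (z * k * z⁻¹) * z⁻¹ := by rw [hyzy]; group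
  have hle : Nat.card K ≤ 8 :=
    card_le_eight hP xK (fun h => hx1 (congrArg Subtype.val h)) hx2' huniqK βz hβ3 hβfix
  haveI : Fact (Nat.Prime 2) := ⟨Nat.prime_two⟩
  obtain ⟨i, hi⟩ := IsPGroup.iff_card.1 hP
  rcases i with _ | _ | _ | _ | i
  · omega
  · omega
  · omega
  · omega
  · have h16 : 16 ≤ 2 ^ (i + 4) := by
      calc 16 = 2 ^ 4 := by norm_num
        _ ≤ 2 ^ (i + 4) := Nat.pow_le_pow_right (by norm_num) (by omega)
    omega

end CfsgLib.Sharp.Jordan
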