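import Cfsg.Agent.Lib.Sharp.JordanFour
import Mathlib.GroupTheory.Sylow
import Mathlib.GroupTheory.SpecificGroups.Cyclic
import Mathlib.GroupTheory.Subgroup.Centralizer
import Mathlib.Tactic.NormNum.Prime

/-!
Sharply `k`-transitive groups for `k ≥ 5`.
-/

set_option autoImplicit false

namespace CfsgLib.Sharp.Jordan

open MulAction

variable {G α : Type*} [Group G] [MulAction G α]

/-- The stabilizer of a point is sharply `k`-transitive on the other points. -/
theorem sharp_stabilizer {k : ℕ} (hS : Sharp (k + 1) G α) (a : α) :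
    Sharp k (stabilizer G a) (SubMulAction.ofStabilizer G a) := by
  intro x y
  let ext' : (Fin k ↪ SubMulAction.ofStabilizer G a) → (Fin (k + 1) ↪ α) := fun x =>
    { toFun := Fin.cons a fun i => (x i : α)
      inj' := by
        rw [Fin.cons_injective_iff]
        refine ⟨?_, Subtype.val_injective.comp x.injective⟩
        rintro ⟨i, hi⟩
        exact (x i).2 hi }
  obtain ⟨g, hg, hu⟩ := hS (ext' x) (ext' y)
  have hga : g • a = a := congrFun (congrArg (fun e : Fin (k + 1) ↪ α => (e : Fin (k + 1) → α)) hg) 0
  refine ⟨⟨g, hga⟩, ?_, fun h hh => ?_⟩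
  · ext i
    exact congrFun (congrArg (fun e : Fin (k + 1) ↪ α => (e : Fin (k + 1) → α)) hg) i.succ
  · refine Subtype.ext (hu h ?_)
    ext i
    refine Fin.cases ?_ (fun j => ?_) i
    · exact h.2
    · exact congrArg Subtype.val
        (congrFun (congrArg (fun e : Fin k ↪ SubMulAction.ofStabilizer G a =>
          (e : Fin k → SubMulAction.ofStabilizer G a)) hh) j)

theorem card_ofStabilizer [Finite α] (a : α) :
    Nat.card (SubMulAction.ofStabilizer G a) + 1 = Nat.card α := by
  classical
  letI := Fintype.ofFinite α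
  have h : Nat.card (SubMulAction.ofStabilizer G a) = ((Finset.univ : Finset α).erase a).card := by
    rw [Nat.card_eq_fintype_card]
    exact Fintype.card_of_subtype _ fun x => by
      rw [Finset.mem_erase]
      exact ⟨fun h => h.1, fun h => ⟨h, Finset.mem_univ x⟩⟩
  rw [h, Finset.card_erase_of_mem (Finset.mem_univ a), Finset.card_univ, Nat.card_eq_fintype_card]
  have : 0 < Fintype.card α := Fintype.card_pos_iff.2 ⟨a⟩
  omega

theorem degree_five [Finite G] [Finite α] (hS : Sharp 5 G α) (h5 : 5 ≤ Nat.card α) :
    Nat.card α = 5 ∨ Nat.card α = 6 ∨ Nat.card α = 7 ∨ Nat.card α = 12 := by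
  obtain ⟨a⟩ : Nonempty α := (Nat.card_pos_iff.1 (by omega : 0 < Nat.card α)).1
  have h := card_ofStabilizer (G := G) a
  have := degree_four (sharp_stabilizer hS a) (by omega)
  omega

theorem card_group [Finite G] [Finite α] {k : ℕ} (hS : Sharp k G α) (hk : k ≤ Nat.card α) :
    Nat.card G = (Nat.card α).descFactorial k := by
  classical
  letI := Fintype.ofFinite α
  obtain ⟨x₀⟩ : Nonempty (Fin k ↪ α) := Function.Embedding.nonempty_of_card_le (by
    rwa [Fintype.card_fin, ← Nat.card_eq_fintype_card])
  rw [Nat.card_congr (Equiv.ofBijective (fun g : G => g • x₀)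
    ⟨fun g h e => (hS x₀ (h • x₀)).unique e rfl, fun y => (hS x₀ y).exists⟩),
    Nat.card_eq_fintype_card, Fintype.card_embedding_eq, Fintype.card_fin,
    Nat.card_eq_fintype_card]

theorem eq_one_of_fix_all {k : ℕ} [Finite α] (hS : Sharp k G α) (hk : k ≤ Nat.card α) {g : G}
    (h : ∀ x : α, g • x = x) : g = 1 := by
  classical
  letI := Fintype.ofFinite α
  obtain ⟨x₀⟩ : Nonempty (Fin k ↪ α) := Function.Embedding.nonempty_of_card_le (by
    rwa [Fintype.card_fin, ← Nat.card_eq_fintype_card])
  exact (hS x₀ x₀).unique (by ext i; exact h _) (one_smul _ _)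

/-- There is no sharply six-transitive group of degree thirteen. -/
theorem not_six_thirteen [Finite G] [Finite α] (hS : Sharp 6 G α) (h13 : Nat.card α = 13) :
    False := by
  classical
  have hG : Nat.card G = 1235520 := by
    rw [card_group hS (by omega), h13]
    decide
  haveI : Fact (Nat.Prime 13) := ⟨by norm_num⟩
  obtain ⟨σ, hσ⟩ := exists_prime_orderOf_dvd_card' (G := G) 13 (by rw [hG]; norm_num)
  obtain ⟨P⟩ : Nonempty (Sylow 13 G) := inferInstance
  have hP : Nat.card (P : Subgroup G) = 13 := by
    have h13p : Nat.Prime 13 := Fact.out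
    have h1 := (h13p.pow_dvd_iff_le_factorization (k := 1) (n := 1235520) (by norm_num)).1 (by norm_num)
    have h2 := mt (h13p.pow_dvd_iff_le_factorization (k := 2) (n := 1235520) (by norm_num)).2
      (by norm_num)
    rw [P.card_eq_multiplicity, hG, show Nat.factorization 1235520 13 = 1 by omega, pow_one]
  haveI hcyc : IsCyclic (P : Subgroup G) := isCyclic_of_prime_card (p := 13) hP
  obtain ⟨⟨t, ht⟩, ht1⟩ : ∃ u : (P : Subgroup G), u ≠ 1 := by
    haveI : Nontrivial (P : Subgroup G) := Finite.one_lt_card_iff_nontrivial.1 (by omega)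
    exact exists_ne 1
  obtain ⟨a, ha⟩ : ∃ a : α, t • a ≠ a := by
    by_contra h
    push Not at h
    exact ht1 (Subtype.ext (eq_one_of_fix_all hS (by omega) h))
  -- the Sylow subgroup is transitive
  have htrans : ∀ b : α, ∃ u ∈ (P : Subgroup G), u • a = b := by
    have horb : Nat.card (MulAction.orbit (P : Subgroup G) a) = 13 := by
      have hdvd : Nat.card (MulAction.orbit (P : Subgroup G) a) ∣ 13 := by
        have h := Subgroup.index_dvd_card (MulAction.stabilizer (P : Subgroup G) a)
        rw [MulAction.index_stabilizer, hP] at h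
        rwa [Nat.card_coe_set_eq]
      rcases (Nat.dvd_prime (by norm_num)).1 hdvd with h | h
      · exfalso
        apply ha
        obtain ⟨hsub, -⟩ := Nat.card_eq_one_iff_unique.1 h
        exact congrArg Subtype.val (hsub.elim
          (⟨t • a, ⟨⟨t, ht⟩, rfl⟩⟩ : MulAction.orbit (P : Subgroup G) a) ⟨a, MulAction.mem_orbit_self a⟩)
      · exact h
    intro b
    have huniv : MulAction.orbit (P : Subgroup G) a = Set.univ := by
      refine Set.eq_of_subset_of_ncard_le (Set.subset_univ _) ?_ (Set.toFinite _)
      rw [Set.ncard_univ, h13, ← Nat.card_coe_set_eq, horb]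
    obtain ⟨u, hu⟩ : b ∈ MulAction.orbit (P : Subgroup G) a := huniv ▸ Set.mem_univ b
    exact ⟨u, u.2, hu⟩
  have hcentral : ∀ u ∈ (P : Subgroup G), ∀ v ∈ (P : Subgroup G), u * v = v * u := fun u hu v hv =>
    congrArg Subtype.val
      ((IsCyclic.commGroup (α := (P : Subgroup G))).mul_comm ⟨u, hu⟩ ⟨v, hv⟩)
  have hC : Subgroup.centralizer ((P : Subgroup G) : Set G) = (P : Subgroup G) := by
    refine le_antisymm (fun g hg => ?_) fun u hu => ?_
    · obtain ⟨u, hu, hua⟩ := htrans (g • a)
      have hgu : u⁻¹ * g = 1 := by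
        refine eq_one_of_fix_all hS (by omega) fun b => ?_
        obtain ⟨v, hv, rfl⟩ := htrans b
        have h1 : v * g = g * v := Subgroup.mem_centralizer_iff.1 hg v hv
        rw [← mul_smul, mul_assoc, ← h1, ← mul_assoc, hcentral _ (inv_mem hu) v hv, mul_smul,
          mul_smul, ← hua, inv_smul_smul]
      rw [← inv_mul_eq_one.1 hgu]
      exact hu
    · exact Subgroup.mem_centralizer_iff.2 fun v hv => hcentral v hv u hu
  set N := Subgroup.normalizer ((P : Subgroup G) : Set G) with hN
  set φ := Subgroup.normalizerMonoidHom (P : Subgroup G) with hφ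
  have hker : Nat.card φ.ker = 13 := by
    rw [hφ, Subgroup.normalizerMonoidHom_ker, hC]
    rw [Nat.card_congr (Subgroup.subgroupOfEquivOfLe Subgroup.le_normalizer).toEquiv, hP]
  have he : Nat.card φ.range ∣ 12 := by
    have h := Subgroup.card_subgroup_dvd_card φ.range
    rwa [IsCyclic.card_mulAut, hP, Nat.totient_prime (by norm_num)] at h
  have hNc : Nat.card N = 13 * Nat.card φ.range := by
    rw [← Subgroup.card_mul_index φ.ker, hker, Subgroup.index_ker]
  have hsyl : Nat.card (Sylow 13 G) * Nat.card N = 1235520 := by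
    rw [← hG, P.card_eq_index_normalizer]
    exact Subgroup.index_mul_card _
  have hmod := card_sylow_modEq_one 13 G
  rw [Nat.ModEq] at hmod
  rw [hNc] at hsyl
  have hepos : 0 < Nat.card φ.range := Nat.card_pos
  have hele : Nat.card φ.range ≤ 12 := Nat.le_of_dvd (by norm_num) he
  generalize Nat.card φ.range = m at he hsyl hepos hele
  generalize Nat.card (Sylow 13 G) = q at hsyl hmod
  interval_cases m <;> omega

universe u v

theorem degree_large (k : ℕ) (hk : 6 ≤ k) :
    ∀ (G : Type u) (α : Type v) [Group G] [MulAction G α] [Finite G] [Finite α],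
      Sharp k G α → k ≤ Nat.card α →
      Nat.card α = k ∨ Nat.card α = k + 1 ∨ Nat.card α = k + 2 := by
  induction k, hk using Nat.le_induction with
  | base =>
    intro G α _ _ _ _ hS hn
    obtain ⟨a⟩ : Nonempty α := (Nat.card_pos_iff.1 (by omega : 0 < Nat.card α)).1
    have h := card_ofStabilizer (G := G) a
    have := degree_five (sharp_stabilizer hS a) (by omega)
    rcases this with h' | h' | h' | h'
    · omega
    · omega
    · omega
    · exact absurd (by omega : Nat.card α = 13) (fun h13 => not_six_thirteen hS h13)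
  | succ k hk ih =>
    intro G α _ _ _ _ hS hn
    obtain ⟨a⟩ : Nonempty α := (Nat.card_pos_iff.1 (by omega : 0 < Nat.card α)).1
    have h := card_ofStabilizer (G := G) a
    have := ih _ _ (sharp_stabilizer hS a) (by omega)
    omega

end CfsgLib.Sharp.Jordan
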