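import Cfsg.Agent.Lib.Golay.SimpleCrit
import Cfsg.Prelude.Def_Sporadic

/-!
Sharply four-transitive groups of degree 11 and sharply five-transitive groups of degree 12.
-/

set_option autoImplicit false

namespace CfsgLib.Sharp.Mathieu

open Cfsg CfsgLib.Golay.SimpleCrit

variable {α : Type*} [Fintype α] [DecidableEq α]

omit [DecidableEq α] in
/-- The order of a sharply transitive group. -/
theorem card_of_sharp (G : Subgroup (Equiv.Perm α)) (k : ℕ)
    [MulAction.IsMultiplyPretransitive G α k] (hk : k ≤ Fintype.card α)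
    (hsharp : ∀ x : Fin k ↪ α, MulAction.stabilizer G x = ⊥) :
    Nat.card G = (Fintype.card α).descFactorial k := by
  obtain ⟨x0⟩ : Nonempty (Fin k ↪ α) :=
    Function.Embedding.nonempty_of_card_le (by rwa [Fintype.card_fin])
  have hbij : Function.Bijective fun g : G => g • x0 := by
    refine ⟨fun g h e => ?_, fun y => MulAction.exists_smul_eq G x0 y⟩
    have hmem : h⁻¹ * g ∈ MulAction.stabilizer G x0 := by
      rw [MulAction.mem_stabilizer_iff, mul_smul]
      exact inv_smul_eq_iff.2 e
    rw [hsharp, Subgroup.mem_bot] at hmem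
    exact (inv_mul_eq_one.1 hmem).symm
  rw [Nat.card_congr (Equiv.ofBijective _ hbij), Nat.card_eq_fintype_card,
    Fintype.card_embedding_eq, Fintype.card_fin]

section Eleven

variable (G : Subgroup (Equiv.Perm α))

/-- An element of order 11 is transitive. -/
theorem exists_pow (hα : Fintype.card α = 11) {σ : G} (hσ : orderOf σ = 11) (x y : α) :
    ∃ i : ℕ, (σ ^ i) • x = y := by
  have hp : Nat.Prime 11 := by norm_num
  obtain ⟨x0, hx0⟩ : ∃ x0 : α, σ • x0 ≠ x0 := by
    by_contra hcon
    push Not at hcon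
    have : σ = 1 := Subtype.ext (Equiv.ext hcon)
    rw [this, orderOf_one] at hσ
    omega
  have horb : MulAction.orbit (Subgroup.zpowers σ) x0 = Set.univ := by
    refine Set.eq_of_subset_of_ncard_le (Set.subset_univ _) ?_ (Set.toFinite _)
    rw [Set.ncard_univ, Nat.card_eq_fintype_card, hα, ← MulAction.index_stabilizer]
    have hdvd := Subgroup.index_dvd_card (MulAction.stabilizer (Subgroup.zpowers σ) x0)
    rw [Nat.card_zpowers, hσ] at hdvd
    rcases (Nat.dvd_prime hp).1 hdvd with h1 | h1
    · exfalso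
      rw [Subgroup.index_eq_one] at h1
      have : (⟨σ, Subgroup.mem_zpowers σ⟩ : Subgroup.zpowers σ) ∈
          MulAction.stabilizer (Subgroup.zpowers σ) x0 := h1 ▸ Subgroup.mem_top _
      exact hx0 this
    · omega
  have hx : x ∈ MulAction.orbit (Subgroup.zpowers σ) x0 := horb ▸ Set.mem_univ x
  have hy : y ∈ MulAction.orbit (Subgroup.zpowers σ) x := by
    rw [MulAction.orbit_eq_iff.2 hx, horb]; exact Set.mem_univ y
  obtain ⟨⟨τ, hτ⟩, hτy⟩ := hy
  obtain ⟨i, rfl⟩ := mem_powers_iff_mem_zpowers.2 hτ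
  exact ⟨i, hτy⟩

theorem no_fixed (hα : Fintype.card α = 11) {σ : G} (hσ : orderOf σ = 11) (x : α) :
    σ • x ≠ x := by
  intro h
  obtain ⟨y, hy⟩ := Fintype.exists_ne_of_one_lt_card (by rw [hα]; norm_num) x
  obtain ⟨i, hi⟩ := exists_pow G hα hσ x y
  refine hy (hi ▸ ?_)
  clear hi
  induction i with
  | zero => simp
  | succ i ih => rw [pow_succ, mul_smul, h, ih]

theorem card_normalizer_le (hα : Fintype.card α = 11) {σ : G} (hσ : orderOf σ = 11) :
    Nat.card (Subgroup.normalizer (Subgroup.zpowers σ : Set G)) ≤ 110 := by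
  classical
  obtain ⟨x0⟩ : Nonempty α := Fintype.card_pos_iff.1 (by omega)
  set N := Subgroup.normalizer (Subgroup.zpowers σ : Set G)
  have hconj : ∀ g : N, (g : G) * σ * (g : G)⁻¹ ∈ (Subgroup.zpowers σ : Set G) ∧
      (g : G) * σ * (g : G)⁻¹ ≠ 1 := fun g => by
    refine ⟨((Subgroup.mem_normalizer_iff).1 g.2 σ).1 (Subgroup.mem_zpowers σ), fun h => ?_⟩
    rw [conj_eq_one_iff] at h
    rw [h, orderOf_one] at hσ
    omega
  let f : N → {τ : Subgroup.zpowers σ // τ ≠ 1} × α := fun g =>
    (⟨⟨_, (hconj g).1⟩, fun h => (hconj g).2 (congrArg Subtype.val h)⟩, (g : G) • x0)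
  have hf : Function.Injective f := by
    intro g h e
    obtain ⟨e1, e2⟩ := Prod.mk.injEq .. ▸ e
    have e1' : (g : G) * σ * (g : G)⁻¹ = (h : G) * σ * (h : G)⁻¹ :=
      congrArg (fun t : {τ : Subgroup.zpowers σ // τ ≠ 1} => ((t.1 : G))) e1
    refine Subtype.ext (Subtype.ext (Equiv.ext fun y => ?_))
    obtain ⟨i, rfl⟩ := exists_pow G hα hσ x0 y
    have key : ∀ a : G, a • ((σ ^ i) • x0) = ((a * σ * a⁻¹) ^ i) • (a • x0) := fun a => by
      rw [conj_pow, ← mul_smul, ← mul_smul, inv_mul_cancel_right]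
    show (g : G) • ((σ ^ i) • x0) = (h : G) • ((σ ^ i) • x0)
    rw [key, key, e1', e2]
  have hle := Nat.card_le_card_of_injective f hf
  rw [Nat.card_prod, Nat.card_eq_fintype_card (α := α), hα] at hle
  have h10 : Nat.card {τ : Subgroup.zpowers σ // τ ≠ 1} = 10 := by
    rw [Nat.card_eq_fintype_card, Fintype.card_subtype_compl, Fintype.card_subtype_eq,
      ← Nat.card_eq_fintype_card, Nat.card_zpowers, hσ]
  omega

theorem isM11 (hα : Fintype.card α = 11) [MulAction.IsMultiplyPretransitive G α 4]
    (hsharp : ∀ x : Fin 4 ↪ α, MulAction.stabilizer G x = ⊥) : IsM11 G := by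
  classical
  have hG : Nat.card G = 7920 := by
    rw [card_of_sharp G 4 (by omega) hsharp, hα]; rfl
  refine ⟨?_, hG⟩
  have hp : Fact (Nat.Prime 11) := ⟨by norm_num⟩
  have hSylow : ∀ P : Sylow 11 G, Nat.card P = 11 ∧
      ∀ g ∈ P, g ≠ 1 → orderOf g = 11 ∧ Subgroup.zpowers g = (P : Subgroup G) := by
    intro P
    have hP : Nat.card P = 11 := by
      obtain ⟨k, hk⟩ := IsPGroup.iff_card.1 P.isPGroup'
      have h1 : 11 ^ k ∣ 7920 := hG ▸ hk ▸ Subgroup.card_subgroup_dvd_card (P : Subgroup G)
      have h2 : 11 ∣ 11 ^ k := hk ▸ Sylow.dvd_card_of_dvd_card P (by rw [hG]; norm_num)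
      have hk1 : k ≤ 1 := by
        by_contra hcon
        have := (pow_dvd_pow 11 (show 2 ≤ k by omega)).trans h1
        norm_num at this
      interval_cases k
      · norm_num at h2
      · rw [hk]; norm_num
    refine ⟨hP, fun g hg hg1 => ?_⟩
    have hle : Subgroup.zpowers g ≤ (P : Subgroup G) := Subgroup.zpowers_le.2 hg
    have hdvd := Subgroup.card_dvd_of_le hle
    rw [Nat.card_zpowers, hP] at hdvd
    have ho : orderOf g = 11 := ((Nat.dvd_prime (by norm_num)).1 hdvd).resolve_left
      (fun h => hg1 (orderOf_eq_one_iff.1 h))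
    exact ⟨ho, Subgroup.eq_of_le_of_card_ge hle (by rw [Nat.card_zpowers, ho, hP])⟩
  -- the Sylow 11-subgroups
  obtain ⟨P⟩ : Nonempty (Sylow 11 G) := inferInstance
  obtain ⟨σ, hσP, hσ1⟩ : ∃ σ ∈ (P : Subgroup G), σ ≠ 1 := by
    refine ((P : Subgroup G).bot_or_exists_ne_one).resolve_left fun hbot => ?_
    have h11 : Nat.card (P : Subgroup G) = 11 := (hSylow P).1
    rw [hbot, Subgroup.card_bot] at h11
    omega
  obtain ⟨hσ, hσgen⟩ := (hSylow P).2 σ hσP hσ1
  set N11 := Subgroup.normalizer (P : Set G) with hN11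
  have hle : Nat.card N11 ≤ 110 := by
    show Nat.card (Subgroup.normalizer ((P : Subgroup G) : Set G)) ≤ 110
    rw [← hσgen]; exact card_normalizer_le G hα hσ
  have h11 : 11 ∣ Nat.card N11 := (hSylow P).1 ▸ Subgroup.card_dvd_of_le Subgroup.le_normalizer
  have hidx : N11.index * Nat.card N11 = 7920 := by rw [Subgroup.index_mul_card, hG]
  have hmod : N11.index % 11 = 1 := by
    have h := card_sylow_modEq_one 11 G
    rw [P.card_eq_index_normalizer] at h
    exact h
  obtain ⟨m, hm⟩ := h11
  have hN55 : Nat.card N11 = 55 ∧ N11.index = 144 := by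
    have hm10 : m ≤ 10 := by omega
    have hprod : N11.index * m = 720 := by
      rw [hm] at hidx
      have : 11 * (N11.index * m) = 11 * 720 := by rw [← Nat.mul_assoc, Nat.mul_comm 11, Nat.mul_assoc, hidx]
      omega
    interval_cases m <;> omega
  have hsylcard : Nat.card (Sylow 11 G) = 144 := by rw [P.card_eq_index_normalizer, ← hN11, hN55.2]
  -- the action
  have h2 : MulAction.IsMultiplyPretransitive G α 2 :=
    MulAction.isMultiplyPretransitive_of_le' (m := 2) (n := 4) (by norm_num)
      (by rw [ENat.card_eq_coe_fintype_card, hα]; exact_mod_cast (by norm_num : 4 ≤ 11))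
  have h1 : MulAction.IsPretransitive G α := MulAction.isPretransitive_of_is_two_pretransitive
  have htt : TwoTrans G (Finset.univ : Finset α) := by
    refine ⟨fun _ _ _ => Finset.mem_univ _, fun x _ y _ z _ hy hz => ?_,
      fun x _ y _ => MulAction.exists_smul_eq G x y, fun g h => ?_⟩
    · exact MulAction.is_two_pretransitive_iff.1 h2 hy.symm hz.symm
    · exact Subtype.ext (Equiv.ext fun x => h x (Finset.mem_univ x))
  have := nontrivial_of_two htt (by rw [Finset.card_univ, hα]; norm_num)
  refine ⟨fun N hN => or_iff_not_imp_left.2 fun hne => ?_⟩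
  obtain ⟨x0⟩ : Nonempty α := Fintype.card_pos_iff.1 (by omega)
  have hdvd : 11 ∣ Nat.card N := by
    have := htt.card_dvd hN hne (Finset.mem_univ x0)
    rwa [Finset.card_univ, hα] at this
  -- every Sylow subgroup lies in the normal subgroup
  have hsyl : ∀ Q : Sylow 11 G, (Q : Subgroup G) ≤ N := by
    obtain ⟨⟨τ, hτN⟩, hτ⟩ := exists_prime_orderOf_dvd_card' 11 hdvd
    rw [Subgroup.orderOf_mk] at hτ
    obtain ⟨Q₀, hQ₀⟩ : ∃ Q₀ : Sylow 11 G, Subgroup.zpowers τ ≤ (Q₀ : Subgroup G) :=
      IsPGroup.exists_le_sylow (IsPGroup.of_card (n := 1) (by rw [Nat.card_zpowers, hτ]; norm_num))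
    have hτ1 : τ ≠ 1 := fun h => by rw [h, orderOf_one] at hτ; omega
    intro Q g hg
    obtain ⟨c, rfl⟩ := MulAction.exists_smul_eq G Q₀ Q
    rw [Sylow.coe_subgroup_smul, Subgroup.mem_pointwise_smul_iff_inv_smul_mem] at hg
    rw [← ((hSylow Q₀).2 τ (hQ₀ (Subgroup.mem_zpowers τ)) hτ1).2] at hg
    have hN' : (MulAut.conj c)⁻¹ • g ∈ N := Subgroup.zpowers_le.2 hτN hg
    have := hN.conj_mem _ hN' c
    simpa [MulAut.conj_inv_apply, mul_assoc] using this
  -- the index
  have hindex : N.index = 1 ∨ N.index = 5 := by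
    have hsup := Sylow.normalizer_sup_eq_top' P (hsyl P)
    have hd : N.index ∣ Nat.card N11 := by
      rw [← Subgroup.relIndex_top_right, ← hsup, ← hN11, Subgroup.relIndex_sup_right]
      exact Subgroup.relIndex_dvd_card N N11
    rw [hN55.1] at hd
    have hprod := Subgroup.index_mul_card N
    rw [hG] at hprod
    obtain ⟨k, hk⟩ := hdvd
    have hle55 : N.index ≤ 55 := Nat.le_of_dvd (by norm_num) hd
    have h720 : N.index * k = 720 := by
      rw [hk] at hprod
      have : 11 * (N.index * k) = 11 * 720 := by rw [← Nat.mul_assoc, Nat.mul_comm 11, Nat.mul_assoc, hprod]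
      omega
    interval_cases h : N.index <;> omega
  rcases hindex with hi | hi
  · exact Subgroup.index_eq_one.1 hi
  exfalso
  have hN1584 : Nat.card N = 1584 := by
    have := Subgroup.index_mul_card N
    rw [hG, hi] at this
    omega
  set S : Finset G := Finset.univ.filter fun g => g ∈ N ∧ orderOf g = 11 with hS
  have hSbig : 1440 ≤ S.card := by
    have hsig : ∀ Q : Sylow 11 G, Nat.card {g : (Q : Subgroup G) // g ≠ 1} = 10 := fun Q => by
      rw [Nat.card_eq_fintype_card, Fintype.card_subtype_compl, Fintype.card_subtype_eq,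
        ← Nat.card_eq_fintype_card, (hSylow Q).1]
    have hmem : ∀ (Q : Sylow 11 G) (g : {g : (Q : Subgroup G) // g ≠ 1}), ((g.1 : G)) ∈ S :=
      fun Q g => Finset.mem_filter.2 ⟨Finset.mem_univ _, hsyl Q g.1.2,
        ((hSylow Q).2 _ g.1.2 fun h => g.2 (Subtype.ext h)).1⟩
    let f : (Σ Q : Sylow 11 G, {g : (Q : Subgroup G) // g ≠ 1}) → S := fun q => ⟨_, hmem q.1 q.2⟩
    have hf : Function.Injective f := by
      rintro ⟨Q, g⟩ ⟨R, h⟩ e
      have e' : ((g.1 : G)) = (h.1 : G) := congrArg Subtype.val e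
      have hQR : Q = R := Sylow.ext (by
        rw [← ((hSylow Q).2 _ g.1.2 fun h => g.2 (Subtype.ext h)).2, e',
          ((hSylow R).2 _ h.1.2 fun h' => h.2 (Subtype.ext h')).2])
      subst hQR
      exact congrArg (Sigma.mk Q) (Subtype.ext (Subtype.ext e'))
    have := Nat.card_le_card_of_injective f hf
    rw [Nat.card_sigma, Finset.sum_congr rfl (fun Q _ => hsig Q), Finset.sum_const,
      Finset.card_univ, ← Nat.card_eq_fintype_card, hsylcard, Nat.card_eq_finsetCard] at this
    simpa using this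
  set K : α → Finset G := fun x => Finset.univ.filter fun g => g ∈ N ∧ g • x = x with hK
  have hK144 : ∀ x, (K x).card = 144 := by
    intro x
    have hNt : MulAction.orbit N x = Set.univ := Set.eq_univ_of_forall fun y => by
      obtain ⟨n, hn, hny⟩ := htt.trans_normal hN hne (Finset.mem_univ x) (Finset.mem_univ y)
      exact ⟨⟨n, hn⟩, hny⟩
    have h := Subgroup.card_mul_index (MulAction.stabilizer N x)
    rw [MulAction.index_stabilizer, hNt, Set.ncard_univ, Nat.card_eq_fintype_card (α := α), hα,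
      hN1584] at h
    have e : (MulAction.stabilizer N x) ≃ (K x) :=
      { toFun := fun g => ⟨(g.1 : G), Finset.mem_filter.2 ⟨Finset.mem_univ _, g.1.2, g.2⟩⟩
        invFun := fun g => ⟨⟨g.1, (Finset.mem_filter.1 g.2).2.1⟩, (Finset.mem_filter.1 g.2).2.2⟩
        left_inv := fun _ => rfl
        right_inv := fun _ => rfl }
    rw [Nat.card_congr e, Nat.card_eq_finsetCard] at h
    omega
  set All : Finset G := Finset.univ.filter (· ∈ N) with hAll
  have hAllc : All.card = 1584 := by
    rw [← hN1584, Nat.card_eq_fintype_card, Fintype.card_subtype]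
  have hdisj : ∀ x, Disjoint S (K x) := fun x => Finset.disjoint_left.2 fun g hg hgx =>
    no_fixed G hα (Finset.mem_filter.1 hg).2.2 x (Finset.mem_filter.1 hgx).2.2
  have hunion : ∀ x, S ∪ K x = All := fun x => by
    refine Finset.eq_of_subset_of_card_le ?_ ?_
    · intro g hg
      rcases Finset.mem_union.1 hg with h | h <;>
        exact Finset.mem_filter.2 ⟨Finset.mem_univ _, (Finset.mem_filter.1 h).2.1⟩
    · rw [Finset.card_union_of_disjoint (hdisj x), hK144, hAllc]
      omega
  obtain ⟨g, hg, hg1⟩ := Finset.exists_mem_ne (s := K x0) (by rw [hK144]; norm_num) 1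
  refine hg1 (Subtype.ext (Equiv.ext fun y => ?_))
  have hy : g ∈ S ∪ K y := by rw [hunion, ← hunion x0]; exact Finset.mem_union_right _ hg
  rcases Finset.mem_union.1 hy with h | h
  · exact absurd hg (Finset.disjoint_left.1 (hdisj x0) h)
  · exact (Finset.mem_filter.1 h).2.2

end Eleven

section Twelve

theorem isM12 (hα : Fintype.card α = 12) (G : Subgroup (Equiv.Perm α))
    [MulAction.IsMultiplyPretransitive G α 5]
    (hsharp : ∀ x : Fin 5 ↪ α, MulAction.stabilizer G x = ⊥) : IsM12 G := by
  classical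
  have hG : Nat.card G = 95040 := by
    rw [card_of_sharp G 5 (by omega) hsharp, hα]; rfl
  refine ⟨?_, hG⟩
  have h5 := ‹MulAction.IsMultiplyPretransitive G α 5›
  have h2 : MulAction.IsMultiplyPretransitive G α 2 :=
    MulAction.isMultiplyPretransitive_of_le' (m := 2) (n := 5) (by norm_num)
      (by rw [ENat.card_eq_coe_fintype_card, hα]; exact_mod_cast (by norm_num : 5 ≤ 12))
  have h1 : MulAction.IsPretransitive G α := MulAction.isPretransitive_of_is_two_pretransitive
  have htt : TwoTrans G (Finset.univ : Finset α) := by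
    refine ⟨fun _ _ _ => Finset.mem_univ _, fun x _ y _ z _ hy hz => ?_,
      fun x _ y _ => MulAction.exists_smul_eq G x y, fun g h => ?_⟩
    · exact MulAction.is_two_pretransitive_iff.1 h2 hy.symm hz.symm
    · exact Subtype.ext (Equiv.ext fun x => h x (Finset.mem_univ x))
  obtain ⟨x0⟩ : Nonempty α := Fintype.card_pos_iff.1 (by omega)
  refine isSimpleGroup_of_stabilizer htt (Finset.mem_univ x0) (q := 2) (r := 3) Nat.prime_two
    Nat.prime_three (by norm_num) (by rw [Finset.card_univ, hα]; norm_num)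
    (by rw [Finset.card_univ, hα]; norm_num) ?_
  -- the stabiliser acts on the other eleven points
  have hiff : ∀ (g : MulAction.stabilizer G x0) (y : α),
      ((g : G) : Equiv.Perm α) y ≠ x0 ↔ y ≠ x0 := fun g y => by
    have hgx : ((g : G) : Equiv.Perm α) x0 = x0 := g.2
    exact ⟨fun h e => h (by rw [e, hgx]), fun h e => h (((g : G) : Equiv.Perm α).injective
      (e.trans hgx.symm))⟩
  let ρ : MulAction.stabilizer G x0 →* Equiv.Perm {y : α // y ≠ x0} :=
    { toFun := fun g => ((g : G) : Equiv.Perm α).subtypePerm (hiff g)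
      map_one' := Equiv.ext fun _ => rfl
      map_mul' := fun _ _ => Equiv.ext fun _ => rfl }
  have hρ : Function.Injective ρ := by
    intro g h e
    refine Subtype.ext (Subtype.ext (Equiv.ext fun y => ?_))
    by_cases hy : y = x0
    · subst hy
      exact g.2.trans h.2.symm
    · exact congrArg Subtype.val (Equiv.congr_fun e ⟨y, hy⟩)
  have hcard : Fintype.card {y : α // y ≠ x0} = 11 := by
    rw [Fintype.card_subtype_compl, Fintype.card_subtype_eq, hα]
  let up : (Fin 4 ↪ {y : α // y ≠ x0}) → (Fin 5 ↪ α) := fun z =>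
    ⟨Fin.cases x0 (fun i => (z i : α)), by
      intro a b hab
      cases a using Fin.cases with
      | zero => cases b using Fin.cases with
        | zero => rfl
        | succ b => simp only [Fin.cases_zero, Fin.cases_succ] at hab; exact absurd hab.symm (z b).2
      | succ a => cases b using Fin.cases with
        | zero => simp only [Fin.cases_zero, Fin.cases_succ] at hab; exact absurd hab (z a).2
        | succ b =>
          simp only [Fin.cases_succ] at hab
          rw [z.injective (Subtype.ext hab)]⟩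
  have : MulAction.IsMultiplyPretransitive ρ.range {y : α // y ≠ x0} 4 := by
    rw [MulAction.isMultiplyPretransitive_iff]
    intro x y
    obtain ⟨g, hg⟩ := MulAction.exists_smul_eq G (up x) (up y)
    have hg0 : g • x0 = x0 := DFunLike.congr_fun hg 0
    refine ⟨⟨ρ ⟨g, hg0⟩, ⟨_, rfl⟩⟩, DFunLike.ext _ _ fun i => Subtype.ext ?_⟩
    exact DFunLike.congr_fun hg i.succ
  have hM := isM11 ρ.range hcard fun x => by
    rw [Subgroup.eq_bot_iff_forall]
    rintro ⟨_, g, rfl⟩ hg
    have hg' : (g : G) ∈ MulAction.stabilizer G (up x) := DFunLike.ext _ _ fun i => by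
      cases i using Fin.cases with
      | zero => exact g.2
      | succ i =>
        exact congrArg Subtype.val (DFunLike.congr_fun (MulAction.mem_stabilizer_iff.1 hg) i)
    rw [hsharp, Subgroup.mem_bot] at hg'
    refine Subtype.ext ?_
    show ρ g = 1
    rw [show g = 1 from Subtype.ext hg', map_one]
  have := hM.1
  exact MulEquiv.isSimpleGroup (MonoidHom.ofInjective hρ)

end Twelve

end CfsgLib.Sharp.Mathieu
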